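import Cfsg.Agent.E6S.Inn
import Cfsg.Agent.S0028

/-! Outer involutions of `N(⟨a,b⟩)`, and elements of odd order centralising much. -/

set_option autoImplicit false
set_option linter.unusedSectionVars false

namespace Cfsg.Agent.E6S

open Cfsg Cfsg.Spor Cfsg.Agent.Spor Cfsg.Agent.Spor.Leech Subgroup Cfsg.Agent.TT Cfsg.Agent.LES
  Cfsg.Agent.Mon Cfsg.Agent.MonU Cfsg.Agent.PLocal Cfsg.Agent.PLocal.Amb
open Cfsg.Agent.MonY.E0 (mem_c2)

theorem comm_of_odd {G : Type*} [Group G] {o x : G} {n k : ℕ} (hn : Odd n) (ho : o ^ n = 1)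
    (h : Commute (o ^ 2 ^ k) x) : Commute o x := by
  have c : (2 ^ k).Coprime (orderOf o) := Nat.Coprime.pow_left _
    ((Nat.coprime_two_left.2 hn).coprime_dvd_right (orderOf_dvd_of_pow_eq_one ho))
  obtain ⟨m, hm⟩ := exists_pow_eq_self_of_coprime c
  exact hm ▸ h.pow_left m

variable {G : Type} [Group G] [Finite G] {z : G} {Q : Subgroup G}
  {π : centralizer ({z} : Set G) →* Co1} {ψ : leechLattice → G} {a b : G}

theorem Ix.three {h : If0 z Q π ψ} {A B : Subgroup G} {n : ℕ} (i : Ix h A n) (hB : B ≤ A)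
    (hz : z ∈ B) : Ix h B (4 * n) ∨ ∃ p ∈ A, ∃ q ∈ A, ∃ r ∈ A, p ∉ B ∧ q ∉ B ∧ r ∉ B ∧ p * q ∉ B ∧
      p * r ∉ B ∧ q * r ∉ B ∧ p * q * r ∉ B := by
  have two : ∀ {C : Subgroup G} {p : G} {m : ℕ}, C ≤ Q → z ∈ C → p ∈ Q → Ix h (C ⊔ zpowers p) m →
      Ix h C (2 * m) := fun {C p m} h1 h2 h3 j => j.two le_sup_left h2 fun x hx y hy c d => by
    have e1 := ((h.xs.mem_sup_zpowers h1 h2 h3).1 hx).resolve_left c
    have e2 := ((h.xs.mem_sup_zpowers h1 h2 h3).1 hy).resolve_left d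
    have e3 : p * p ∈ C := by rcases h.xs.sq h3 with e | e <;> simp [e, h2]
    convert mul_mem (mul_mem e1 (inv_mem e3)) (h.xs.conj_mem h1 h2 h3 e2) using 1
    group
  have BQ := hB.trans i.1
  by_cases c1 : A ≤ B
  · exact Or.inl (i.mono c1 BQ (by omega))
  obtain ⟨p, hp, np⟩ := SetLike.not_le_iff_exists.1 c1
  have Q1 : B ⊔ zpowers p ≤ Q := sup_le BQ (zpowers_le.2 (i.1 hp))
  by_cases c2 : A ≤ B ⊔ zpowers p
  · exact Or.inl ((two BQ hz (i.1 hp) (i.mono c2 Q1 le_rfl)).mono le_rfl BQ (by omega))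
  obtain ⟨q, hq, nq⟩ := SetLike.not_le_iff_exists.1 c2
  by_cases c3 : A ≤ B ⊔ zpowers p ⊔ zpowers q
  · exact Or.inl ((two BQ hz (i.1 hp) (two Q1 (mem_sup_left hz) (i.1 hq)
      (i.mono c3 (sup_le Q1 (zpowers_le.2 (i.1 hq))) le_rfl))).mono le_rfl BQ (by omega))
  obtain ⟨r, hr, nr⟩ := SetLike.not_le_iff_exists.1 c3
  have p1 : p ∈ B ⊔ zpowers p := mem_sup_right (mem_zpowers p)
  have q2 : q ∈ B ⊔ zpowers p ⊔ zpowers q := mem_sup_right (mem_zpowers q)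
  have k : ∀ y ∈ B ⊔ zpowers p ⊔ zpowers q, y * r ∉ B := fun y hy c =>
    nr ((mul_mem_cancel_left hy).1 (mem_sup_left (mem_sup_left c)))
  exact Or.inr ⟨p, hp, q, hq, r, hr, np, fun c => nq (mem_sup_left c), by simpa using k 1 (one_mem _),
    fun c => nq ((mul_mem_cancel_left p1).1 (mem_sup_left c)), k _ (mem_sup_left p1), k _ q2,
    k _ (mul_mem (mem_sup_left p1) q2)⟩

namespace St

variable (s : St z Q π ψ a b)
include s

theorem out {l : G} (hl : l ∈ 𝐍[EE a b]) (lK : l ∉ KK a b) (l2 : l * l ∈ EE a b) {V : G → Prop}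
    (hV : ∀ c ∈ KK a b, ∀ d ∈ KK a b, c * c = 1 → d * d = 1 → c * d = d * c → l * c = c * l →
      l * d = d * l → V c ∨ V d ∨ V (c * d)) :
    ∃ p ∈ KK a b, V (cm l p) ∧ cm l p ∉ EE a b ∧ cm l p * cm l p = 1 ∧
      l * (p * p) = p * p * l ∧ p ^ 4 = 1 := by
  obtain ⟨w, h0, h1⟩ := s.exists_w (S := zpowers l) (isPGroup_zpowers ⟨2, by
    rw [pow_two, pow_mul, pow_two, pow_two, s.E_sq l2]⟩) (zpowers_le.2 hl)
  rename' z => z₀, w => z
  have lz := h1 l (mem_zpowers l)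
  obtain ⟨Q, π, ψ, s, -⟩ := s.move h0
  clear h0 h1
  have xs := s.h.xs
  have nq := s.h.mon.lx.norm l lz
  have sym : ∀ p ∈ Q ⊓ KK a b, ∀ q, cmv (l * q * l⁻¹) p = cmv (l * p * l⁻¹) q := fun p hp q => by
    rw [← cmv_conj l (l * p * l⁻¹) q, cmv_comm]
    congr 1
    calc p = l * l * p * (l * l)⁻¹ := (conj_eq_of_comm (cmE l2 hp.2)).symm
      _ = _ := by group
  have ad : ∀ p ∈ Q ⊓ KK a b, ∀ q ∈ Q ⊓ KK a b, cmv (l * (p * q) * l⁻¹) (p * q) =
      cmv (l * p * l⁻¹) p + cmv (l * q * l⁻¹) q := fun p hp q hq => by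
    rw [← conj_mul, cmv_mul_left xs (nq p hp.1) (nq q hq.1) (mul_mem hp.1 hq.1),
      cmv_mul_right xs hp.1 hq.1 (nq p hp.1), cmv_mul_right xs hp.1 hq.1 (nq q hq.1), sym p hp q]
    generalize cmv (l * p * l⁻¹) q = x
    generalize cmv (l * p * l⁻¹) p = y
    generalize cmv (l * q * l⁻¹) q = u
    revert x y u; decide
  let P : Subgroup G :=
    { carrier := {p | p ∈ Q ⊓ KK a b ∧ cmv (l * p * l⁻¹) p = 0}
      one_mem' := ⟨one_mem _, by simp [cmv_eq_zero]⟩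
      mul_mem' := fun {p q} hp hq => ⟨mul_mem hp.1 hq.1, by rw [ad p hp.1 q hq.1, hp.2, hq.2, add_zero]⟩
      inv_mem' := fun {p} hp => ⟨inv_mem hp.1, cmv_eq_zero.2 (by
        rw [← conj_inv]; exact (Commute.inv_inv (cmv_eq_zero.1 hp.2)).eq)⟩ }
  have zP : z ∈ P := ⟨⟨xs.z_mem, s.zK⟩, cmv_eq_zero.2 (by rw [conj_eq_of_comm lz])⟩
  have i : Ix s.h P (2 * 4) := s.ix4.two (fun _ hp => hp.1) zP fun p hp q hq c d =>
    ⟨mul_mem hp hq, by
      rw [ad p hp q hq, cmv_eq_one.2 fun e => c ⟨hp, cmv_eq_zero.2 e⟩,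
        cmv_eq_one.2 fun e => d ⟨hq, cmv_eq_zero.2 e⟩]; rfl⟩
  have l2p : ∀ p ∈ Q, l * (p * p) = p * p * l := fun p hp => by
    rcases xs.sq hp with e | e <;> simp [e, lz]
  have sq : ∀ p ∈ P, cm l p * cm l p = 1 := fun p hp => by
    rw [cm, ← (Commute.inv_right (cmv_eq_zero.1 hp.2 : Commute _ _)).mul_mul_mul_comm, conj_mul,
      conj_eq_of_comm (l2p p hp.1.1)]
    group
  have lc : ∀ p ∈ P, l * cm l p = cm l p * l := fun p hp => comm_of_conj_eq (by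
    refine Eq.trans ?_ (inv_eq_of_mul_eq_one_right (sq p hp))
    calc _ = l * l * p * (l * l)⁻¹ * (l * p⁻¹ * l⁻¹) := by simp only [cm]; group
      _ = _ := by rw [conj_eq_of_comm (cmE l2 hp.1.2)]; simp only [cm]; group)
  rcases i.three (B := P ⊓ Cm s.h lz _ s.F2_Q zF) inf_le_left ⟨zP, xs.z_mem, by simp [cm, lz]⟩ with
    j | ⟨p, hp, q, hq, r, hr, n1, n2, n3, n4, n5, n6, n7⟩
  · exact absurd (s.down j (by norm_num) hl lz (s.E_Q l2) fun _ hq => hq.2.2).2 lK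
  by_contra hc
  have nV : ∀ p ∈ P, p ∉ P ⊓ Cm s.h lz _ s.F2_Q zF → ¬ V (cm l p) := fun p hp n c =>
    hc ⟨p, hp.1.2, c, fun e => n ⟨hp, hp.1.1, E_F e⟩, sq p hp, l2p p hp.1.1, xs.pow_four hp.1.1⟩
  have key : ∀ p ∈ P, ∀ q ∈ P, p ∉ P ⊓ Cm s.h lz _ s.F2_Q zF → q ∉ P ⊓ Cm s.h lz _ s.F2_Q zF →
      p * q ∉ P ⊓ Cm s.h lz _ s.F2_Q zF → p * cm l q ≠ cm l q * p := fun p hp q hq n1 n2 n3 e => by
    have e1 : cm l (p * q) = cm l p * cm l q := by rw [cm_mul, conj_eq_of_comm e]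
    rcases hV _ (cm_KK hl hp.1.2) _ (cm_KK hl hq.1.2) (sq p hp) (sq q hq)
      (CE.J0.comm_of_sq (sq p hp) (sq q hq) (e1 ▸ sq _ (mul_mem hp hq))) (lc p hp) (lc q hq) with
      c | c | c
    exacts [nV p hp n1 c, nV q hq n2 c, nV _ (mul_mem hp hq) n3 (e1 ▸ c)]
  exact key _ (mul_mem hp hq) r hr n4 n3 n7 (xs.mul_comm_of_not_comm (cm_mem s.h lz hr.1.1)
    hp.1.1 hq.1.1 (key p hp r hr n1 n3 n5) (key q hq r hr n2 n3 n6))

/-- An element of odd order centralising `z`, `l` and `C_Q(a,b,l)` is trivial. -/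
theorem bal {l o : G} {n : ℕ} (hn : Odd n) (ho : o ^ n = 1) (oK : o ∈ KK a b) (oz : o * z = z * o)
    (lK : l ∈ KK a b) (ll : l * l = 1) (lz : l * z = z * l) (ol : o * l = l * o)
    (hc : ∀ p ∈ Q ⊓ KK a b, p * l = l * p → o * p = p * o) : o = 1 := by
  have xs := s.h.xs
  have nm : ∀ x ∈ KK a b, x * z = z * x → zpowers x ≤ 𝐍[Q ⊓ KK a b] := fun x h1 h2 =>
    zpowers_le.2 (mem_normalizer_fintype fun p hp =>
      ⟨s.h.mon.lx.norm x h2 p hp.1, conj_KK (KK_le a b h1) hp.2⟩)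
  have h1 := S0028.result 2 (zpowers l) (zpowers o) (Q ⊓ KK a b)
    (isPGroup_zpowers ⟨1, by simpa [pow_two] using ll⟩) (by
      rw [Nat.card_zpowers]
      exact ((Nat.coprime_two_left.2 hn).coprime_dvd_right
        (orderOf_dvd_of_pow_eq_one ho)).symm)
    (xs.isPGroup.to_le inf_le_left)
    (by rw [Amb.centralizer_zpowers]; exact zpowers_le.2 (mem_centralizer_singleton_iff.2 ol.symm))
    (nm l lK lz) (nm o oK oz) (fun p hp => by
      rw [Amb.centralizer_zpowers] at hp ⊢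
      exact mem_centralizer_singleton_iff.2 (hc p hp.1 (mem_centralizer_singleton_iff.1 hp.2)).symm)
    (mem_zpowers o)
  have h2 : ∀ q ∈ Q, q * o = o * q := fun q hq => by
    have k : ∀ e ∈ EE a b, cm o q * e = e * cm o q := fun e he => by
      rw [← cmv_eq_zero, cm, cmv_mul_left xs (s.h.mon.lx.norm o oz q hq) (inv_mem hq) (s.E_Q he),
        ← conj_eq_of_comm (cmE he oK).symm, cmv_conj, conj_eq_of_comm (cmE he oK).symm,
        ← cmv_mul_left xs hq (inv_mem hq) (s.E_Q he), cmv_eq_zero]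
      simp
    have h3 : cm o q ∈ Q ⊓ KK a b := ⟨cm_mem s.h oz hq, mem_c2.2 ⟨k a aE, k b bE⟩⟩
    have h4 : ∀ m : ℕ, o ^ m * q * (o ^ m)⁻¹ = cm o q ^ m * q := fun m => by
      induction m with
      | zero => simp
      | succ m ih =>
        have c : Commute o (cm o q ^ m) := Commute.pow_right (h1 _ h3).symm m
        calc _ = o * (o ^ m * q * (o ^ m)⁻¹) * o⁻¹ := by group
          _ = cm o q ^ m * (o * q * o⁻¹) := by rw [ih, ← mul_assoc, c.eq]; group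
          _ = _ := by rw [← cm_mul_self]; group
    refine (comm_of_odd (k := 2) hn ho (comm_of_conj_eq ?_)).eq.symm
    rw [h4, show 2 ^ 2 = 4 from rfl, xs.pow_four h3.1, one_mul]
  obtain ⟨m, rfl⟩ := hn
  refine (s.h.mon.lx.eq_of_comm h2).resolve_right fun e => xs.z_ne ?_
  rwa [e, pow_succ, pow_mul, pow_two, xs.z_sq, one_pow, one_mul] at ho

/-- An element of `C_Q(a,b)` centralises a neighbour of `z`. -/
theorem exists_nb {l : G} (hl : l ∈ Q) :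
    ∃ w ∈ Rt z Q a b, w ∈ Q ∧ w ≠ z ∧ w * z ∈ Rt z Q a b ∧ w * l = l * w := by
  obtain ⟨g, gz, rfl, rfl⟩ := s.exists_std
  have h := s.h
  have r := fun v => Eqv.refl z (ψ v)
  have u : ∀ {v w}, (LC.nm v = 64 ∧ LC.nm (-leechU + v) = 32 ∧ LC.nm (-x16 + v) = 32) →
      Eqv z w (ψ v) → g * w * g⁻¹ * l = l * (g * w * g⁻¹) → ∃ w ∈ Rt z Q (g * ψ leechU * g⁻¹)
        (g * ψ x16 * g⁻¹), w ∈ Q ∧ w ≠ z ∧ w * z ∈ Rt z Q (g * ψ leechU * g⁻¹) (g * ψ x16 * g⁻¹) ∧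
          w * l = l * w := fun {v w} k e c => ⟨_, (CE.Rt_conj g).2 (E6.mem_R h (r _) (r _) e k),
    h.mon.lx.norm g (comm_of_conj_eq gz) _ (h.mon.mem_of_eqv e), fun c =>
      (CE.J0.mem_B_of_eqv h e k.1).2 ((MulAut.conj g).injective (c.trans gz.symm)), by
      have := (CE.Rt_conj g).2 (E6.mem_R h (r _) (r _) (CE.J0.eqv_mul_z h e) k)
      rwa [← conj_mul, gz] at this, c⟩
  let v1 := leechU + Br.v4 (some 1) (some 12) true
  let v2 := e8 none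
  have m := fun v => h.mon.lx.norm g (comm_of_conj_eq gz) _ (h.mon.mem v)
  by_cases c1 : g * ψ v1 * g⁻¹ * l = l * (g * ψ v1 * g⁻¹)
  · exact u (by decide) (r v1) c1
  by_cases c2 : g * ψ v2 * g⁻¹ * l = l * (g * ψ v2 * g⁻¹)
  · exact u (by decide) (r v2) c2
  refine u (v := leechU + Br.v4 (some 1) (some 12) false) (by decide) (h.eqv_congr
    (h.eqv_mul' (r v1) (r v2)) (y := Br.v4 none (some 12) true) (Subtype.ext (by decide))) ?_
  rw [← conj_mul]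
  exact h.xs.mul_comm_of_not_comm hl (m _) (m _) c1 c2

end St

end Cfsg.Agent.E6S
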