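import Cfsg.Agent.E6S.Chart
import Cfsg.Agent.E6S.Out

/-! Canonical lifts along a chart; inner and outer involutions of conjugates of `C(A)`. -/

set_option autoImplicit false
set_option linter.unusedSectionVars false

namespace Cfsg.Agent.E6S

open Cfsg Cfsg.Spor Cfsg.Agent.Spor Cfsg.Agent.Spor.Leech Subgroup Cfsg.Agent.TT Cfsg.Agent.LES
  Cfsg.Agent.Mon Cfsg.Agent.MonU Cfsg.Agent.PLocal Cfsg.Agent.PLocal.Amb
open Cfsg.Agent.MonY.E0 (mem_c2)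

theorem pow_odd {G : Type*} [Group G] {x : G} {n : ℕ} (hn : Odd n) (h : x * x = 1) : x ^ n = x := by
  obtain ⟨m, rfl⟩ := hn
  rw [pow_succ, pow_mul, pow_two, h, one_pow, one_mul]

theorem four_of_sq {G : Type*} [Group G] {x : G} (h : x * x = 1) : x ^ 4 = 1 := by
  rw [show 4 = 2 * 2 from rfl, pow_mul, pow_two x, h, one_pow]

theorem ord_two {G : Type*} [Group G] {x : G} (h : x * x = 1) (h1 : x ≠ 1) : orderOf x = 2 :=
  orderOf_eq_prime (by rwa [pow_two]) h1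

theorem sq_mul' {G : Type*} [Group G] {x y : G} (h : x * y = y * x) (hx : x * x = 1) (hy : y * y = 1) :
    x * y * (x * y) = 1 := by rw [Commute.mul_mul_mul_comm h.symm, hx, hy, one_mul]

theorem sq_cj {G : Type*} [Group G] {x : G} (g : G) (h : x * x = 1) :
    g⁻¹ * x * g * (g⁻¹ * x * g) = 1 := by
  calc _ = g⁻¹ * (x * x) * g := by group
    _ = 1 := by rw [h]; group

variable {G : Type*} [Group G] [Finite G] {M : Type} [Group M] [Finite M] {A : Subgroup G}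

section
variable (hA : IsStandardSubgroup A) {g x y : G}
include hA

theorem one_of_inf (hg : g ∉ 𝐍[A]) (h1 : x ∈ 𝐂[A]) (h2 : x ∈ cj(g, 𝐂[A])) (h3 : x * x = 1) :
    x = 1 := by_contra fun c => hg (Std.mem_normalizer hA (ord_two (sq_cj g h3) fun e => c
      (by simpa [mul_assoc] using congrArg (fun y => g * y * g⁻¹) e)) (mem_cj.1 h2)
        (by simpa [mul_assoc] using h1))

theorem norm_of_comm (h1 : x ∈ cj(g, 𝐂[A])) (h2 : x * x = 1) (h3 : x ≠ 1) (h : y * x = x * y) :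
    y ∈ 𝐍[cj(g, A)] := Std.mem_normalizer_of_commute (Std.cj hA g) (ord_two h2 h3)
  (centralizer_cj g A ▸ h1) h

theorem conj_cj (h : y ∈ 𝐍[cj(g, A)]) (h1 : x ∈ cj(g, 𝐂[A])) : y * x * y⁻¹ ∈ cj(g, 𝐂[A]) := by
  rw [← centralizer_cj] at *
  exact conj_mem_of_mem_normalizer (normalizer_le_normalizer_centralizer _ h) h1

end

variable {z : M} {Q : Subgroup M} {π : centralizer ({z} : Set M) →* Co1}
  {ψ : leechLattice → M} {a b : M} {R J : Subgroup (G × M)}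

namespace Ch

variable (c : Ch A a b R J) {x y n g : G} {k l m : M}
include c

theorem memK (h : (x, m) ∈ R) (hm : m ∈ EE a b) : x ∈ 𝐂[A] :=
  c.kerR.1 (by simpa using mul_mem h (inv_mem (c.kerR'.2 hm)))

theorem memE (h : (x, m) ∈ R) (hx : x ∈ 𝐂[A]) : m ∈ EE a b :=
  c.kerR'.1 (by simpa using mul_mem (inv_mem (c.kerR.2 hx)) h)

theorem uniq4 (hx : (x, k) ∈ J) (hy : (y, k) ∈ J) (x4 : x ^ 4 = 1) (y4 : y ^ 4 = 1) : x = y := by
  have h : (x * y⁻¹, 1) ∈ J := by simpa using mul_mem hx (inv_mem hy)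
  have h1 : Commute (x * y⁻¹) y := (c.kerR.1 (c.le h) y (c.JA hy)).symm
  have h2 := h1.mul_pow 4
  rw [inv_mul_cancel_right, x4, y4, mul_one, pow_succ, c.ker3 h, one_mul] at h2
  exact mul_inv_eq_one.1 h2.symm

theorem lift4 (hk : k ∈ KK a b) (k4 : k ^ 4 = 1) : ∃ x, (x, k) ∈ J ∧ x ^ 4 = 1 := by
  obtain ⟨x, hx⟩ := c.exJ k hk
  have h := c.ker3 (n := x ^ 4) (by simpa [k4] using pow_mem hx 4)
  refine ⟨x ^ 9, ?_, by rw [← pow_mul, show 9 * 4 = 4 * 3 * 3 from rfl, pow_mul, pow_mul, h, one_pow]⟩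
  have := pow_mem hx 9
  rwa [Prod.pow_mk, show 9 = 4 * 2 + 1 from rfl, pow_succ k, pow_mul k, k4, one_pow, one_mul] at this

theorem lift2 (hk : k ∈ KK a b) (k2 : k * k = 1) : ∃ x, (x, k) ∈ J ∧ x * x = 1 := by
  obtain ⟨x, hx, x4⟩ := c.lift4 hk (four_of_sq k2)
  exact ⟨x, hx, c.uniq4 (k := 1) (k2 ▸ mul_mem hx hx) (one_mem _)
    (by rw [← pow_two, ← pow_mul, mul_comm, pow_mul, x4, one_pow]) (one_pow _)⟩

theorem conjJ (hr : (n, m) ∈ R) (hx : (x, k) ∈ J) : (n * x * n⁻¹, m * k * m⁻¹) ∈ J := c.norm _ hr _ hx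

theorem cmJ (hr : (n, m) ∈ R) (hx : (x, k) ∈ J) : (n * x * n⁻¹ * x⁻¹, cm m k) ∈ J :=
  mul_mem (c.conjJ hr hx) (inv_mem hx)

theorem comm_lift (hr : (n, m) ∈ R) (hx : (x, k) ∈ J) (x4 : x ^ 4 = 1) (e : m * k = k * m) :
    n * x = x * n := comm_of_conj_eq (c.uniq4 (conj_eq_of_comm e ▸ c.conjJ hr hx) hx
      (by rw [conj_pow, x4]; group) x4)

theorem dec (s : St z Q π ψ a b) (h : (y, l) ∈ R) (lK : l ∈ KK a b) (yy : y * y = 1) :
    l * l = 1 ∧ ∃ u v, (u, l) ∈ J ∧ u * u = 1 ∧ v ∈ 𝐂[A] ∧ v * v = 1 ∧ y = u * v := by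
  have ll := sq_eq_one s.h s.ha s.hb lK (c.kerR'.1 (yy ▸ mul_mem h h))
  obtain ⟨u, hu, uu⟩ := c.lift2 lK ll
  have e : Commute y u := c.comm_lift h hu (four_of_sq uu) rfl
  refine ⟨ll, u, u⁻¹ * y, hu, uu, c.kerR.1 (by simpa using mul_mem (inv_mem (c.le hu)) h), ?_, by group⟩
  rw [← e.symm.inv_left.mul_mul_mul_comm, yy, ← mul_inv_rev, uu]; group

theorem three (s : St z Q π ψ a b) (hx : x ∈ 𝐍[A]) (hy : y ∈ 𝐍[A]) (x2 : x * x = 1) (y2 : y * y = 1)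
    (e : x * y = y * x) : (∃ k ∈ KK a b, (x, k) ∈ R) ∨ (∃ k ∈ KK a b, (y, k) ∈ R) ∨
      ∃ k ∈ KK a b, (x * y, k) ∈ R := by
  obtain ⟨φ, -, hφ⟩ := E6.exists_perm s.h s.ha s.hb s.aQ s.bQ
  obtain ⟨p, hp⟩ := c.exR x hx
  obtain ⟨q, hq⟩ := c.exR y hy
  have k : ∀ {x p} (h : (x, p) ∈ R), x * x = 1 → φ ⟨p, c.RM h⟩ * φ ⟨p, c.RM h⟩ = 1 := fun h e => by
    rw [← map_mul, hφ]; exact s.E_K (c.kerR'.1 (e ▸ mul_mem h h))
  have k3 := k (x := x * y) (mul_mem hp hq) (sq_mul' e x2 y2)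
  have d : ∀ u v : Equiv.Perm (Fin 3), u * u = 1 → v * v = 1 → u * v * (u * v) = 1 →
      u = 1 ∨ v = 1 ∨ u * v = 1 := by decide
  rcases d _ _ (k hp x2) (k hq y2) (by rw [← map_mul]; exact k3) with f | f | f
  · exact .inl ⟨p, (hφ _).1 f, hp⟩
  · exact .inr (.inl ⟨q, (hφ _).1 f, hq⟩)
  · exact .inr (.inr ⟨p * q, (hφ _).1 ((map_mul φ _ _).trans f), mul_mem hp hq⟩)

variable (s : St z Q π ψ a b) (hA : IsStandardSubgroup A)
include s hA

/-- An outer involution is swapped with an involution that is inner for its own conjugate of `A`. -/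
theorem out (h1 : y ∈ cj(g, 𝐂[A])) (yy : y * y = 1) (h : (y, l) ∈ R) (lK : l ∉ KK a b) :
    ∃ p ∈ A, p * p * y = y * (p * p) ∧ p * y * p⁻¹ ≠ y ∧ y * (p * y * p⁻¹) ∈ A ∧
      y * (p * y * p⁻¹) = p * y * p⁻¹ * y ∧ ∃ k ∈ KK a b, (g⁻¹ * (p * y * p⁻¹) * g, k) ∈ R := by
  have y1 : y ≠ 1 := fun e => lK (s.E_K (c.kerR'.1 (e ▸ h)))
  have nm : ∀ {x}, x * y = y * x → g⁻¹ * x * g ∈ 𝐍[A] := fun e =>
    mem_cj.1 (normalizer_cj g A ▸ norm_of_comm hA h1 yy y1 e)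
  obtain ⟨p, pK, ⟨x, x1, x2, k, k1, k2⟩, pE, p2, p3, p4⟩ := s.out (c.RM h) lK
    (c.kerR'.1 (yy ▸ mul_mem h h))
    (V := fun m => ∃ x, (x, m) ∈ J ∧ x * x = 1 ∧ ∃ k ∈ KK a b, (g⁻¹ * x * g, k) ∈ R)
    fun u hu v hv uu vv uv lu lv => by
      obtain ⟨u', u1, u2⟩ := c.lift2 hu uu
      obtain ⟨v', v1, v2⟩ := c.lift2 hv vv
      have e : Commute u' v' := c.comm_lift (c.le u1) v1 (four_of_sq v2) uv
      exact (c.three s (nm (c.comm_lift h u1 (four_of_sq u2) lu).symm)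
        (nm (c.comm_lift h v1 (four_of_sq v2) lv).symm) (sq_cj g u2) (sq_cj g v2)
        (by simpa [mul_assoc] using (e.map (MulAut.conj g⁻¹)).eq)).imp (fun f => ⟨_, u1, u2, f⟩)
        (Or.imp (fun f => ⟨_, v1, v2, f⟩) fun f => ⟨u' * v', mul_mem u1 v1, sq_mul' e u2 v2, by
          simpa [mul_assoc] using f⟩)
  obtain ⟨q, q1, q4⟩ := c.lift4 pK p4
  have e1 : cm l p * p = p * cm l p := by
    have : cm l p * p * (cm l p * p) = p * p := by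
      rw [cm_mul_self, conj_mul, conj_eq_of_comm p3]
    refine mul_left_cancel (a := cm l p) (mul_right_cancel (b := p) ?_)
    rw [← mul_assoc, p2, one_mul, ← this]; group
  have e2 : Commute x q := c.comm_lift (c.le x1) q1 q4 e1
  have e3 : y * q * y⁻¹ = x * q := c.uniq4 (c.conjJ h q1) (cm_mul_self l p ▸ mul_mem x1 q1)
    (by rw [conj_pow, q4]; group) (by rw [e2.mul_pow, q4, four_of_sq x2, one_mul])
  have e4 : q * y * q⁻¹ = y * x := by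
    rw [inv_eq_of_mul_eq_one_right yy] at e3
    calc _ = y * (y * q * y) * q⁻¹ := by rw [← mul_assoc, ← mul_assoc, yy, one_mul]
      _ = _ := by rw [e3]; group
  have e5 : y * (y * x) = x := by rw [← mul_assoc, yy, one_mul]
  refine ⟨q, c.JA q1, (c.comm_lift (x := q * q) h (mul_mem q1 q1) (by
    rw [← pow_two, ← pow_mul, mul_comm, pow_mul, q4, one_pow]) p3).symm, ?_⟩
  rw [e4, e5]
  refine ⟨fun e => pE (c.kerR'.1 (c.le ((mul_eq_left.1 e) ▸ x1))), c.JA x1, ?_, k, k1, ?_⟩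
  · have := sq_cj q⁻¹ yy
    rw [inv_inv, e4] at this
    exact mul_right_cancel (b := x) (by rw [x2, mul_assoc, this])
  · simpa [mul_assoc] using mul_mem (c.kerR.2 (mem_cj.1 h1)) k2

end Ch

end Cfsg.Agent.E6S
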