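import Cfsg.Agent.E6S.Inn
import Cfsg.Agent.Std.RedK2
import Cfsg.Agent.Std2B.Ident
import Cfsg.Agent.Class.FieldTransport
import Cfsg.Agent.S1070
import Cfsg.Agent.S1104
import Cfsg.Agent.S2109
import Cfsg.Agent.S2130

/-! The fibre product of `N(A)` and `N(⟨a,b⟩)` over the automorphism group of `²E₆(2)`. -/

set_option autoImplicit false
set_option linter.unusedSectionVars false

namespace Cfsg.Agent.E6S

open Cfsg Cfsg.Spor Cfsg.Agent.Spor Cfsg.Agent.Spor.Leech Subgroup Cfsg.Agent.TT Cfsg.Agent.LES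
  Cfsg.Agent.Mon Cfsg.Agent.MonU Cfsg.Agent.PLocal Cfsg.Agent.PLocal.Amb
open Cfsg.Agent.MonY.E0 (mem_c2)
open scoped commutatorElement

theorem exists_act {Γ X : Type*} [Group Γ] [Group X] [Finite X] {S N : Subgroup Γ} (τ : S →* X)
    (hs : Function.Surjective τ) (hN : ∀ n ∈ N, ∀ x ∈ S, n * x * n⁻¹ ∈ S)
    (hk : ∀ n (hn : n ∈ N) (x : S), τ x = 1 → τ ⟨_, hN n hn x x.2⟩ = 1) :
    ∃ β : N →* MulAut X, ∀ (n : N) (x : S), β n (τ x) = τ ⟨_, hN n n.2 x x.2⟩ := by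
  have ex : ∀ n : N, ∃ α : MulAut X, ∀ x : S, α (τ x) = τ ⟨_, hN n n.2 x x.2⟩ := fun n => by
    let c : S →* S := ((MulAut.conj (n : Γ)).toMonoidHom.comp S.subtype).codRestrict S
      fun x => hN n n.2 x x.2
    let f := τ.liftOfSurjective hs ⟨τ.comp c, fun x hx => hk n n.2 x hx⟩
    have hf : ∀ x, f (τ x) = τ (c x) := fun x => τ.liftOfRightInverse_comp_apply _ _ _ x
    refine ⟨MulEquiv.ofBijective f (Finite.surjective_iff_bijective.1 fun y => ?_), hf⟩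
    obtain ⟨y, rfl⟩ := hs y
    exact ⟨τ ⟨_, hN _ (inv_mem n.2) y y.2⟩, (hf _).trans (congrArg τ (Subtype.ext (by simp [c, mul_assoc])))⟩
  choose β hβ using ex
  refine ⟨MonoidHom.mk' β fun m n => MulEquiv.ext fun y => ?_, hβ⟩
  obtain ⟨y, rfl⟩ := hs y
  rw [MulAut.mul_apply, hβ, hβ, hβ]
  exact congrArg τ (Subtype.ext (by simp [mul_assoc]))

theorem comm_of_center {Γ : Type*} [Group Γ] {S : Subgroup Γ} (hp : commutator S = ⊤) {n : Γ}
    (hn : n ∈ 𝐍[S]) (h : ∀ x : S, (⟨_, conj_mem_of_mem_normalizer hn x.2⟩ * x⁻¹ : S) ∈ center S) :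
    n ∈ 𝐂[S] := fun x hx => by
  have := Std.aut_eq_one_of_center hp (S.normalizerMonoidHom ⟨n, hn⟩) h
  exact (comm_of_conj_eq (congrArg (fun f : MulAut S => (f ⟨x, hx⟩ : Γ)) this)).symm

variable {G : Type*} [Group G] {M : Type} [Group M]

/-- `R` relates elements inducing the same automorphism, `J` is a common covering group. -/
structure Ch (A : Subgroup G) (a b : M) (R J : Subgroup (G × M)) : Prop where
  le : J ≤ R
  RN : ∀ {n m}, (n, m) ∈ R → n ∈ 𝐍[A]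
  RM : ∀ {n m}, (n, m) ∈ R → m ∈ 𝐍[EE a b]
  exR : ∀ n ∈ 𝐍[A], ∃ m, (n, m) ∈ R
  kerR : ∀ {n}, (n, 1) ∈ R ↔ n ∈ 𝐂[A]
  kerR' : ∀ {m}, (1, m) ∈ R ↔ m ∈ EE a b
  JA : ∀ {n m}, (n, m) ∈ J → n ∈ A
  JK : ∀ {n m}, (n, m) ∈ J → m ∈ KK a b
  exJ : ∀ k ∈ KK a b, ∃ n, (n, k) ∈ J
  exJ' : ∀ n ∈ A, ∃ k, (n, k) ∈ J
  norm : ∀ r ∈ R, ∀ p ∈ J, r * p * r⁻¹ ∈ J
  ker3 : ∀ {n}, (n, 1) ∈ J → n ^ 3 = 1

variable [Finite G] [Finite M] {z : M} {Q : Subgroup M} {π : centralizer ({z} : Set M) →* Co1}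
  {ψ : leechLattice → M} {a b : M}

theorem St.iso (s : St z Q π ψ a b) {K : Type*} [Field K] [Fintype K] (hK : Fintype.card K = 4) :
    ∃ τ : KK a b →* Lie.twistedE6 K 2, Function.Surjective τ ∧ ∀ x, τ x = 1 ↔ (x : M) ∈ EE a b := by
  obtain ⟨g, -, rfl, rfl⟩ := s.exists_std
  have r := fun v => Eqv.refl z (ψ v)
  have a0 := E6.A_a s.h (r _)
  have b0 := E6.D_b s.h (r _) (r _)
  let N := (EE (ψ leechU) (ψ x16)).subgroupOf (KK (ψ leechU) (ψ x16))
  have : N.Normal := normal_subgroupOf' (KK_le _ _)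
  have q : E6.Quo z Q π ψ _ _ (QuotientGroup.mk' N) :=
    ⟨s.h, r _, r _, QuotientGroup.mk'_surjective N, fun x => QuotientGroup.eq_one_iff x⟩
  obtain ⟨y, R, lx, hO, hc, ⟨k, h1, h2⟩, γ, h3, h4⟩ := q.setting _ Class.card_GF4
  obtain ⟨s1, s2, s3, s4, -⟩ := setting_of_LX lx hO.le (w := 10) hc h1 h2
  have e : R.subgroupOf (centralizer {y}) = pCore 2 _ :=
    hO ▸ comap_map_eq_self_of_injective (subtype_injective _) _
  rw [e] at s2 s3 s4
  obtain ⟨f⟩ := S3363.result y s1 _ rfl s2 s3 s4 K hK (((QuotientGroup.quotientMulEquivOfEq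
    (e.symm.trans (c := γ.ker) (Subgroup.ext fun c => (h4 c).symm))).trans
      (QuotientGroup.quotientKerEquivOfSurjective γ h3)).trans
        (Class.psuCongr 6 2 (Class.ringEquivGF4 hK).symm)) ⟨k, hO.ge h1, h2⟩
  have key : ∀ x : M, x ∈ KK (g * ψ leechU * g⁻¹) (g * ψ x16 * g⁻¹) ↔
      g⁻¹ * x * g⁻¹⁻¹ ∈ KK (ψ leechU) (ψ x16) := fun x => by
    obtain ⟨x, rfl⟩ := (MulAut.conj g).surjective x
    simp only [mem_c2, MulAut.conj_apply, conj_mul, mul_left_inj, mul_right_inj]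
    simp [mul_assoc]
  refine ⟨f.toMonoidHom.comp ((QuotientGroup.mk' N).comp ((((MulAut.conj g⁻¹).toMonoidHom.comp
    (Subgroup.subtype _)).codRestrict _ fun x => (key x).1 x.2))), f.surjective.comp (q.surj.comp
      fun y => ⟨⟨g * y * g⁻¹, (key _).2 (by simp [mul_assoc])⟩, by ext; simp [mul_assoc]⟩), fun x => ?_⟩
  have kE : ∀ y, g * y * g⁻¹ ∈ EE (g * ψ leechU * g⁻¹) (g * ψ x16 * g⁻¹) ↔
      y ∈ EE (ψ leechU) (ψ x16) := fun y => by
    rw [s.mem_E, E6.mem_E s.h a0 b0, conj_mul]; simp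
  rw [MonoidHom.comp_apply, MulEquiv.coe_toMonoidHom, EmbeddingLike.map_eq_one_iff,
    MonoidHom.comp_apply, q.ker, ← kE]
  simp [mul_assoc]

theorem St.perfect (s : St z Q π ψ a b) {X : Type*} [Group X] {τ : KK a b →* X}
    (τs : Function.Surjective τ) (τk : ∀ x, τ x = 1 ↔ (x : M) ∈ EE a b) (hX : commutator X = ⊤) :
    commutator (KK a b) = ⊤ := by
  have k : ∀ w ∈ Rt z Q a b, w ∈ Q → w ≠ z → w ∈ ⁅KK a b, KK a b⁆ := fun w hw hQ hne => by
    obtain ⟨k, k1, -, k3⟩ := s.exists_cm hw hQ hne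
    exact k3 ▸ commutator_mem_commutator k1 s.zK
  have h1 : EE a b ≤ ⁅KK a b, KK a b⁆ := (closure_le _).2 (by
    rintro _ (rfl | rfl)
    exacts [s.six k, s.symm.six fun w hw => k w ⟨hw.2, hw.1⟩])
  refine Std2B.perf_of_stem ⟨τs, fun x hx => mem_center_iff.2 fun y =>
    Subtype.ext (cmE ((τk x).1 hx) y.2).symm, fun x hx => ?_⟩ hX
  have := h1 ((τk x).1 hx)
  rwa [← map_subtype_commutator, mem_map_subtype] at this

theorem St.exists_ch' (s : St z Q π ψ a b) {A : Subgroup G} (hp : commutator A = ⊤) {X : Type*}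
    [Group X] [Finite X] {σ : A →* X} (σs : Function.Surjective σ) (σk : ∀ x, σ x = 1 ↔ x ∈ center A)
    {τ : KK a b →* X} (τs : Function.Surjective τ) (τk : ∀ x, τ x = 1 ↔ (x : M) ∈ EE a b)
    (hO : Nat.card (Out X) = 6) (hm : Mult.mcard X = 12) (hX : commutator X = ⊤)
    (hZ : center X = ⊥) : ∃ R J, Ch A a b R J := by
  have hK := s.perfect τs τk hX
  let P : Subgroup (G × M) :=
    { carrier := {p | ∃ (h1 : p.1 ∈ A) (h2 : p.2 ∈ KK a b), σ ⟨_, h1⟩ = τ ⟨_, h2⟩}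
      one_mem' := ⟨one_mem _, one_mem _, (map_one σ).trans (map_one τ).symm⟩
      mul_mem' := fun ⟨h1, h2, e⟩ ⟨h3, h4, e'⟩ => ⟨mul_mem h1 h3, mul_mem h2 h4,
        (map_mul σ ⟨_, h1⟩ ⟨_, h3⟩).trans (by rw [e, e', ← map_mul]; rfl)⟩
      inv_mem' := fun ⟨h1, h2, e⟩ => ⟨inv_mem h1, inv_mem h2,
        (map_inv σ ⟨_, h1⟩).trans (by rw [e, ← map_inv]; rfl)⟩ }
  have P1 : P.map (MonoidHom.fst G M) = A := le_antisymm (by rintro _ ⟨p, ⟨h, -⟩, rfl⟩; exact h)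
    fun n hn => let ⟨k, e⟩ := τs (σ ⟨n, hn⟩); ⟨(n, k), ⟨hn, k.2, e.symm⟩, rfl⟩
  have P2 : P.map (MonoidHom.snd G M) = KK a b := le_antisymm
    (by rintro _ ⟨p, ⟨-, h, -⟩, rfl⟩; exact h)
    fun k hk => let ⟨n, e⟩ := σs (τ ⟨k, hk⟩); ⟨(n, k), ⟨n.2, hk, e⟩, rfl⟩
  have J1 : ⁅P, P⁆.map (MonoidHom.fst G M) = A := by
    rw [map_commutator, P1, ← map_subtype_commutator, hp, ← MonoidHom.range_eq_map, range_subtype]
  have J2 : ⁅P, P⁆.map (MonoidHom.snd G M) = KK a b := by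
    rw [map_commutator, P2, ← map_subtype_commutator, hK, ← MonoidHom.range_eq_map, range_subtype]
  have JP : ⁅P, P⁆ ≤ P := commutator_le_self P
  obtain ⟨α, hα⟩ := exists_act σ σs (N := 𝐍[A]) (fun n hn x => conj_mem_of_mem_normalizer hn)
    fun n hn x hx => (σk _).2 (Subgroup.characteristic_iff_map_le.1 inferInstance
      (A.normalizerMonoidHom ⟨n, hn⟩) ⟨x, (σk x).1 hx, rfl⟩)
  obtain ⟨β, hβ⟩ := exists_act τ τs (N := 𝐍[EE a b]) (fun n hn x => conj_KK hn)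
    fun n hn x hx => (τk _).2 (conj_mem_of_mem_normalizer hn ((τk x).1 hx))
  have βk : ∀ m : 𝐍[EE a b], (∀ x, β m x = x) → (m : M) ∈ EE a b := fun m h => by
    have h1 : (m : M) ∈ 𝐂[KK a b] := comm_of_center hK
      (mem_normalizer_fintype fun x => conj_KK m.2) fun x => mem_center_iff.2 fun y =>
        Subtype.ext (cmE ((τk _).1 (by rw [map_mul, ← hβ m x, h, ← map_mul]; simp)) y.2).symm
    have h2 : (m : M) ∈ KK a b := mem_c2.2 ⟨(h1 a (s.E_K aE)).symm, (h1 b (s.E_K bE)).symm⟩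
    refine (τk ⟨m, h2⟩).1 (mem_bot.1 (hZ ▸ mem_center_iff.2 fun y => ?_))
    obtain ⟨y, rfl⟩ := τs y
    rw [← map_mul, ← map_mul]
    exact congrArg τ (Subtype.ext (h1 y y.2))
  have : Finite (MulAut X) := Finite.of_injective _ DFunLike.coe_injective
  have cE : Nat.card (EE a b) = 4 := (E6.klein s.h s.ha s.hb).card_four
  have βs : Function.Surjective β := by
    obtain ⟨φ, φ1, φ2⟩ := E6.exists_perm s.h s.ha s.hb s.aQ s.bQ
    have c1 := Mult.Cov.card_eq_card_ker_mul φ1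
    have c2 := Mult.Cov.card_eq_card_ker_mul τs
    have c3 := β.ker.card_mul_index
    have c4 := (Inn X).card_mul_index
    rw [show φ.ker = (KK a b).subgroupOf _ from Subgroup.ext φ2, Nat.card_congr
      (subgroupOfEquivOfLe (KK_le a b)).toEquiv, Nat.card_perm, Nat.card_fin] at c1
    rw [show τ.ker = (EE a b).subgroupOf _ from Subgroup.ext τk, Nat.card_congr
      (subgroupOfEquivOfLe s.E_K).toEquiv, cE] at c2
    have c5 : Nat.card β.ker ≤ 4 := by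
      rw [← cE, ← Nat.card_congr (subgroupOfEquivOfLe (le_normalizer (H := EE a b))).toEquiv]
      exact card_le_of_le fun m hm => βk m fun x => by rw [show β m = 1 from hm]; rfl
    have c6 : Nat.card (Inn X) ≤ Nat.card X :=
      Nat.card_le_card_of_surjective _ (MulAut.conj : X →* MulAut X).rangeRestrict_surjective
    rw [index_ker] at c3
    rw [show (Inn X).index = 6 from hO] at c4
    refine MonoidHom.range_eq_top.1 (eq_top_of_le_card _ ?_)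
    norm_num [Nat.factorial] at c1
    nlinarith
  have mR : ∀ (n : 𝐍[A]) (m : 𝐍[EE a b]), α n = β m → ((n : G), (m : M)) ∈ 𝐍[P] := fun n m e =>
    mem_normalizer_fintype fun p ⟨h1, h2, e'⟩ => ⟨conj_mem_of_mem_normalizer n.2 h1, conj_KK m.2 h2,
      (hα n ⟨_, h1⟩).symm.trans (by rw [e, e', hβ]; rfl)⟩
  refine ⟨𝐍[P] ⊓ (𝐍[A]).prod 𝐍[EE a b], ⁅P, P⁆, fun p hp => ⟨le_normalizer (JP hp),
    le_normalizer (JP hp).1, KK_le a b (JP hp).2.1⟩, fun h => h.2.1, fun h => h.2.2, fun n hn => ?_,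
    fun {n} => ⟨fun h => ?_, fun h => ?_⟩, fun {m} => ⟨fun h => ?_, fun h => ?_⟩, fun h => (JP h).1,
    fun h => (JP h).2.1, fun k hk => ?_, fun n hn => ?_, fun r hr p hp => conj_mem_of_mem_normalizer
      (le_normalizer_commutator le_rfl le_rfl hr.1) hp, fun {n} h => ?_⟩
  · obtain ⟨m, e⟩ := βs (α ⟨n, hn⟩)
    exact ⟨m, mR ⟨n, hn⟩ m e.symm, hn, m.2⟩
  · refine comm_of_center hp h.2.1 fun x => (σk _).1 ?_
    obtain ⟨k, e⟩ := τs (σ x)
    obtain ⟨h1, h2, e'⟩ := conj_mem_of_mem_normalizer (Q := P) h.1 (x := ((x : G), (k : M))) ⟨x.2, k.2, e.symm⟩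
    rw [map_mul, map_inv, mul_inv_eq_one, ← e]
    exact e'.trans (congrArg τ (Subtype.ext (by simp)))
  · refine ⟨centralizer_le_normalizer' _ fun p hp => Prod.ext (h _ hp.1) (by simp),
      centralizer_le_normalizer' _ h, one_mem _⟩
  · refine βk ⟨m, h.2.2⟩ fun x => ?_
    obtain ⟨k, rfl⟩ := τs x
    obtain ⟨n, e⟩ := σs (τ k)
    obtain ⟨h1, h2, e'⟩ := conj_mem_of_mem_normalizer (Q := P) h.1 (x := ((n : G), (k : M))) ⟨n.2, k.2, e⟩
    rw [hβ, ← e]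
    exact e'.symm.trans (congrArg σ (Subtype.ext (by simp)))
  · exact ⟨centralizer_le_normalizer' _ fun p hp => Prod.ext (by simp) (cmE h hp.2.1).symm,
      one_mem _, le_normalizer h⟩
  · obtain ⟨p, h, rfl⟩ := J2.ge hk
    exact ⟨p.1, h⟩
  · obtain ⟨p, h, rfl⟩ := J1.ge hn
    exact ⟨p.2, h⟩
  let ρ : P →* X := τ.comp (((MonoidHom.snd G M).comp P.subtype).codRestrict _ fun p => p.2.2.1)
  have ρk : ∀ p : P, p ∈ ρ.ker ↔ (p : G × M).2 ∈ EE a b := fun p => τk _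
  have hd := Mult.card_ker_inf_commutator_dvd (σ := ρ) (fun x => by
    obtain ⟨k, rfl⟩ := τs x
    obtain ⟨p, h, e⟩ := P2.ge k.2
    exact ⟨⟨p, h⟩, congrArg τ (Subtype.ext e)⟩) fun p hp => mem_center_iff.2 fun y => Subtype.ext
      (Prod.ext (congrArg Subtype.val (mem_center_iff.1 ((σk _).1 (p.2.2.2.trans hp)) ⟨_, y.2.1⟩))
        (cmE ((ρk p).1 hp) y.2.2.1).symm)
  have c1 := Grp.card_map_mul_card_inf_ker ((MonoidHom.snd G M).comp P.subtype) (ρ.ker ⊓ commutator P)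
  rw [show (ρ.ker ⊓ commutator P).map ((MonoidHom.snd G M).comp P.subtype) = EE a b from le_antisymm
    (by rintro _ ⟨p, h, rfl⟩; exact (ρk p).1 h.1) fun e he => by
      obtain ⟨p, h, rfl⟩ := J2.ge (s.E_K he)
      rw [← map_subtype_commutator] at h
      obtain ⟨p, h, rfl⟩ := h
      exact ⟨p, ⟨(ρk p).2 he, h⟩, rfl⟩, cE] at c1
  rw [← c1, hm, show 12 = 4 * 3 from rfl, Nat.mul_dvd_mul_iff_left (by norm_num)] at hd
  rw [← map_subtype_commutator] at h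
  obtain ⟨p, h, e⟩ := h
  have e2 : (p : G × M).2 = 1 := congrArg Prod.snd e
  have := orderOf_dvd_iff_pow_eq_one.1 ((Subgroup.orderOf_dvd_natCard _
    (mem_inf.2 ⟨mem_inf.2 ⟨(ρk p).2 (e2 ▸ one_mem _), h⟩, e2⟩)).trans hd)
  rw [← show (p : G × M).1 = n from congrArg Prod.fst e]
  exact congrArg (fun q : P => (q : G × M).1) this

theorem St.exists_ch (s : St z Q π ψ a b) {A : Subgroup G} (hp : commutator A = ⊤) {K : Type*}
    [Field K] [Fintype K] (hK : Fintype.card K = 4) (e : A ⧸ center A ≃* Lie.twistedE6 K 2) :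
    ∃ R J, Ch A a b R J := by
  obtain ⟨τ, τs, τk⟩ := s.iso hK
  have hq : IsPrimePow 2 := Nat.prime_two.isPrimePow
  have : CharP K 2 := charP_of_card_eq_prime_pow (f := 2) hK
  have : Finite (Lie.twistedE6 K 2) := .of_surjective τ τs
  obtain ⟨h1, h2⟩ := S1070.result hq hK
  exact s.exists_ch' hp (σ := e.toMonoidHom.comp (QuotientGroup.mk' _))
    (e.surjective.comp (QuotientGroup.mk'_surjective _)) (fun x => by simp) τs τk
    (S2130.result 2 1 (K := K) hK le_rfl) ((Mult.mcard_eq (S2109.result hK)).trans (by simp))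
    (S1104.result hq hK) (Std.center_eq_bot h2)

end Cfsg.Agent.E6S
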