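import Cfsg.Agent.MonU.TwoE6I
import Cfsg.Agent.S2182

/-! Every involution of `C(a,b) / ⟨a,b⟩` lies in one of the extraspecial groups. -/

set_option autoImplicit false

namespace Cfsg.Agent.E6S

open Cfsg Cfsg.Spor Cfsg.Agent.Spor Cfsg.Agent.Spor.Leech Subgroup Cfsg.Agent.TT Cfsg.Agent.LES
  Cfsg.Agent.Mon Cfsg.Agent.MonU Cfsg.Agent.MonU.E6
open Cfsg.Agent.MonY.E0 (mem_c2)

theorem three_of_equiv {H H' : Type*} [Group H] [Group H'] (e : H ≃* H')
    (h : (ConjClasses.mk '' {g : H' | orderOf g = 2}).ncard = 3) {x y w l : H} (hx : orderOf x = 2)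
    (hy : orderOf y = 2) (hw : orderOf w = 2) (hl : orderOf l = 2) (h1 : ¬ IsConj x y)
    (h2 : ¬ IsConj x w) (h3 : ¬ IsConj y w) : IsConj x l ∨ IsConj y l ∨ IsConj w l := by
  have k : ∀ {u v : H}, ConjClasses.mk (e u) = ConjClasses.mk (e v) ↔ IsConj u v := fun {u v} => by
    rw [ConjClasses.mk_eq_mk_iff_isConj]
    exact ⟨fun c => by simpa using e.symm.toMonoidHom.map_isConj c, e.toMonoidHom.map_isConj⟩
  have m : ∀ {u : H}, orderOf u = 2 → ConjClasses.mk (e u) ∈ ConjClasses.mk '' {g : H' | orderOf g = 2} :=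
    fun hu => ⟨_, (e.orderOf_eq _).trans hu, rfl⟩
  have := Set.eq_of_subset_of_ncard_le (s := {ConjClasses.mk (e x), ConjClasses.mk (e y),
    ConjClasses.mk (e w)}) (by rintro _ (rfl | rfl | rfl); exacts [m hx, m hy, m hw])
    (h.trans (Set.ncard_eq_three.2 ⟨_, _, _, mt k.1 h1, mt k.1 h2, mt k.1 h3, rfl⟩).symm).le
    (Set.finite_of_ncard_ne_zero (by omega))
  have h4 := this.ge (m hl)
  simpa only [Set.mem_insert_iff, Set.mem_singleton_iff, eq_comm (a := ConjClasses.mk (e l)), k] using h4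

variable {G : Type} [Group G] [Finite G] {z : G} {Q : Subgroup G}
  {π : centralizer ({z} : Set G) →* Co1} {ψ : leechLattice → G} {a b : G}

theorem std (h : If0 z Q π ψ) (ea : Eqv z a (ψ leechU)) (eb : Eqv z b (ψ x16)) {l : G}
    (hl : l ∈ centralizer ({a, b} : Set G)) (h2 : l * l ∈ closure ({a, b} : Set G)) :
    ∃ k ∈ centralizer ({a, b} : Set G), k⁻¹ * l * k ∈ Q := by
  have ha := A_a h ea
  have hb := D_b h ea eb
  have cm : ∀ e ∈ closure ({a, b} : Set G), ∀ k ∈ centralizer ({a, b} : Set G), e * k = k * e :=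
    fun e he k hk => mem_centralizer_closure_pair.2 (mem_c2.1 hk) e he
  let N := (closure ({a, b} : Set G)).subgroupOf (centralizer {a, b})
  have : N.Normal := ⟨fun n hn g => by
    have : g * n * g⁻¹ = n := Subtype.ext (conj_eq_of_comm (cm _ hn _ g.2).symm)
    rwa [this]⟩
  have q : Quo z Q π ψ a b (QuotientGroup.mk' N) :=
    ⟨h, ea, eb, QuotientGroup.mk'_surjective N, fun x => QuotientGroup.eq_one_iff x⟩
  generalize QuotientGroup.mk' N = m at q
  by_cases h1 : l ∈ closure ({a, b} : Set G)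
  · exact ⟨1, one_mem _, by simpa using q.E_Q h1⟩
  have : Fintype (GaloisField 2 2) := Fintype.ofFinite _
  have hF : Fintype.card (GaloisField 2 2) = 4 := by
    rw [← Nat.card_eq_fintype_card, GaloisField.card 2 2 (by norm_num)]; norm_num
  obtain ⟨e⟩ := q.iso _ hF
  have r := fun v => Eqv.refl z (ψ v)
  have mE := fun {x} => (mem_E h ha hb (x := x)).1
  have cK : ∀ {v : leechLattice}, dotInt (v : GolayPt → ℤ) (leechU : GolayPt → ℤ) % 16 = 0 →
      dotInt (v : GolayPt → ℤ) (x16 : GolayPt → ℤ) % 16 = 0 → ψ v ∈ centralizer ({a, b} : Set G) :=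
    fun h1 h2 => mem_c2.2 ⟨(h.mon.comm_iff (r _) ea).2 h1, (h.mon.comm_iff (r _) eb).2 h2⟩
  have o2 : ∀ x : centralizer ({a, b} : Set G), (x : G) * x ∈ closure ({a, b} : Set G) →
      (x : G) ∉ closure ({a, b} : Set G) → orderOf (m x) = 2 := fun x h1 h2 =>
    orderOf_eq_prime (by rw [pow_two, ← map_mul, q.ker]; exact h1) (mt (q.ker x).1 h2)
  have oB : ∀ x : centralizer ({a, b} : Set G), ∀ f ∈ closure ({a, b} : Set G), f * x ∈ cB z →
      (x : G) * x = 1 → orderOf (m x) = 2 := fun x f hf h1 h2 => o2 x (h2 ▸ one_mem _) fun c =>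
    (E_A h ha hb (mul_mem hf c)).elim (h.ne_one_B h1) fun c => h.disj c h1
  have cj : ∀ {x y : centralizer ({a, b} : Set G)}, IsConj (m x) (m y) →
      ∃ k ∈ centralizer ({a, b} : Set G), ∃ f ∈ closure ({a, b} : Set G),
        (y : G) = k * (f * x) * k⁻¹ := fun {x y} c => by
    obtain ⟨g, hg⟩ := isConj_iff.1 c
    obtain ⟨k, rfl⟩ := q.surj g
    rw [← map_inv, ← map_mul, ← map_mul, eq_comm, q.eq_iff] at hg
    refine ⟨k, k.2, _, hg, ?_⟩
    rw [← mul_assoc, ← cm _ hg _ k.2]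
    simp [mul_assoc]
  have tA : ∀ {k f x f' : G}, k ∈ centralizer ({a, b} : Set G) → f' ∈ closure ({a, b} : Set G) →
      (f' * (k * (f * x) * k⁻¹) ∈ cA ψ ↔ f' * f * x ∈ cA ψ) := fun {k f x f'} hk hf => by
    rw [← conj_mem_cA_iff (a := f' * f * x) k, ← mul_assoc, ← mul_assoc, cm _ hf _ hk]
    simp [mul_assoc]
  let v := Br.v4 (some 2) (some 3) true
  let w := Br.v4 none (some 12) true + Br.v4 (some 14) (some 16) true
  have b1 : a * ψ v ∈ cB z := h.mem_B_of_eqv (h.eqv_mul' ea (r _)) (by decide)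
  have b2 : ∀ f ∈ closure ({a, b} : Set G), f * ψ v ∈ cA ψ → f = 1 := fun f hf c => by
    rcases mE hf with rfl | rfl | rfl | rfl
    · rfl
    · exact absurd b1 (h.disj c)
    · exact absurd (h.mem_B_of_eqv (h.eqv_mul' eb (r _)) (by decide)) (h.disj c)
    · exact absurd (h.mem_B_of_eqv (h.eqv_mul' (h.eqv_mul' (h.eqv_neg ea) eb) (r _)) (by decide))
        (h.disj c)
  have b3 : ∀ f ∈ closure ({a, b} : Set G), f * ψ w ∈ cB z := fun f hf => by
    rcases mE hf with rfl | rfl | rfl | rfl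
    · exact h.mem_B_of_eqv (by rw [one_mul]; exact r w) (by decide)
    · exact h.mem_B_of_eqv (h.eqv_mul' (h.eqv_neg ea) (r _)) (by decide)
    · exact h.mem_B_of_eqv (h.eqv_mul' (h.eqv_neg eb) (r _)) (by decide)
    · exact h.mem_B_of_eqv (h.eqv_congr (h.eqv_mul' (h.eqv_mul' (h.eqv_neg ea) (h.eqv_neg eb)) (r w))
        (w := -(Br.v4 (some 1) (some 17) true + Br.v4 (some 18) (some 22) true))
        (y := ⟨fun i => if i = none ∨ i = some 0 then -2 else if i ∈ setOf' 13062145 then 2 else 0,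
          mem_leech_of_even (setOf'_mem_codeSets (m := 13062145) (by decide +kernel)) (by decide)
            (by decide)⟩) (Subtype.ext (by decide))) (by decide)
  have vA : ψ v ∈ cA ψ := h.mem_A_of_eqv (r _) (by decide)
  have zA : ∀ f ∈ closure ({a, b} : Set G), f ≠ 1 → f * z ∈ cA ψ := fun f hf c =>
    h.mul_z_mem_A ((E_A h ha hb hf).resolve_left c) (q.E_Q hf)
  have aE : a ∈ closure ({a, b} : Set G) := subset_closure (by simp)
  have bE : b ∈ closure ({a, b} : Set G) := subset_closure (by simp)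
  have fin : ∀ x : centralizer ({a, b} : Set G), (x : G) ∈ Q → IsConj (m x) (m ⟨l, hl⟩) →
      ∃ k ∈ centralizer ({a, b} : Set G), k⁻¹ * l * k ∈ Q := fun x hx c => by
    obtain ⟨k, hk, f, hf, e⟩ := cj c
    exact ⟨k, hk, by simpa [show l = _ from e, mul_assoc] using mul_mem (q.E_Q hf) hx⟩
  rcases three_of_equiv e (S2182.result 2 hF) (x := m ⟨ψ v, cK (by decide) (by decide)⟩)
    (y := m ⟨ψ w, cK (by decide) (by decide)⟩) (w := m ⟨z, q.z_mem⟩)
    (oB _ a aE b1 (h.mul_self_A vA)) (oB _ 1 (one_mem _) (b3 1 (one_mem _))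
      (h.mul_self_B (by simpa using b3 1 (one_mem _))))
    (oB _ 1 (one_mem _) (by simpa using z_mem_cB) h.mon.z_sq) (o2 ⟨l, hl⟩ h2 h1)
    (fun c => by
      obtain ⟨k, hk, f, hf, e⟩ := cj c
      exact h.disj ((show ψ w = _ from e) ▸ (tA hk (inv_mem hf)).2 (by simpa using vA))
        (b3 _ (inv_mem hf)))
    (fun c => by
      obtain ⟨k, hk, f, hf, e⟩ := cj c
      have k1 : ∀ f' ∈ closure ({a, b} : Set G), f' ≠ 1 → f' * f = 1 := fun f' h1 h2 =>
        b2 _ (mul_mem h1 hf) ((tA hk h1).1 (e ▸ zA f' h1 h2))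
      exact ne_ab h ha hb (mul_right_cancel ((k1 a aE (h.ne_one_A ha)).trans
        (k1 b bE (h.ne_one_A hb.1)).symm)))
    (fun c => by
      obtain ⟨k, hk, f, hf, e⟩ := cj c
      exact h.disj ((tA hk aE).1 (e ▸ zA a aE (h.ne_one_A ha))) (b3 _ (mul_mem aE hf)))
    with c | c | c
  exacts [fin _ (h.mon.mem _) c, fin _ (h.mon.mem _) c, fin _ h.xs.z_mem c]

/-- An element of `C(a,b)` with square in `⟨a,b⟩` lies in `Q_w` for some `w ∈ R(a,b)`. -/
theorem exists_R (h : If0 z Q π ψ) (ha : a ∈ cA ψ) (hb : b ∈ Dt ψ a) {l : G}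
    (hl : l ∈ centralizer ({a, b} : Set G)) (h2 : l * l ∈ closure ({a, b} : Set G)) :
    ∃ w ∈ Rt z Q a b, InQ z Q w l := by
  have r := fun v => Eqv.refl z (ψ v)
  have a0 := A_a h (r _)
  have b0 := D_b h (r _) (r _)
  obtain ⟨w, h1, h3⟩ := h.exists_inQ ha hb.1 (CD.commD h ha hb)
  obtain ⟨g, rfl, rfl, -⟩ := h.trans_triple a0 b0 ha hb (z_R h (r _) (r _)) (w := w) ⟨h1, h3⟩
  obtain ⟨l, rfl⟩ := (MulAut.conj g).surjective l
  rw [MulAut.conj_apply] at *
  rw [mem_E h ha hb] at h2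
  simp only [mem_c2, conj_mul, mul_left_inj, mul_right_inj, conj_eq_one_iff] at hl h2
  obtain ⟨k, hk, e⟩ := std h (r _) (r _) (mem_c2.2 hl) ((mem_E h a0 b0).2 h2)
  exact ⟨_, (CE.Rt_conj g).2 ((CE.Rt_conj' (mem_c2.1 hk).1 (mem_c2.1 hk).2).2
    (z_R h (r _) (r _))), (h.inQ_iff.2 e).conj g⟩

/-- The same inside the standard `Q`. -/
theorem exists_conj_Q (h : If0 z Q π ψ) (ha : a ∈ cA ψ) (hb : b ∈ Dt ψ a) (haQ : a ∈ Q) (hbQ : b ∈ Q)
    {l : G} (hl : l ∈ centralizer ({a, b} : Set G)) (h2 : l * l ∈ closure ({a, b} : Set G)) :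
    ∃ k ∈ centralizer ({a, b} : Set G), k⁻¹ * l * k ∈ Q := by
  obtain ⟨w, h1, h3⟩ := exists_R h ha hb hl h2
  obtain ⟨g, g1, g2, rfl⟩ := h.trans_R ha hb ⟨h.inQ_z.2 haQ, h.inQ_z.2 hbQ⟩ h1
  exact ⟨g, mem_c2.2 ⟨comm_of_conj_eq g1, comm_of_conj_eq g2⟩, h.inQ_iff.1 h3⟩

theorem sq_eq_one (h : If0 z Q π ψ) (ha : a ∈ cA ψ) (hb : b ∈ Dt ψ a) {l : G}
    (hl : l ∈ centralizer ({a, b} : Set G)) (h2 : l * l ∈ closure ({a, b} : Set G)) : l * l = 1 := by
  obtain ⟨w, -, h3⟩ := exists_R h ha hb hl h2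
  refine (CF.inQ_sq h h3).resolve_right fun e => ?_
  exact (E_A h ha hb (e ▸ h2)).elim (h.ne_one_B h3.mem_cB) fun c => h.disj c h3.mem_cB

end Cfsg.Agent.E6S
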