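import Cfsg.Agent.E6S.Mod

/-! Subgroups of `N(⟨a,b⟩)` normalised by the centralisers of their inner involutions. -/

set_option autoImplicit false
set_option linter.unusedSectionVars false

namespace Cfsg.Agent.E6S

open Cfsg Cfsg.Spor Cfsg.Agent.Spor Cfsg.Agent.Spor.Leech Subgroup Cfsg.Agent.TT Cfsg.Agent.LES
  Cfsg.Agent.Mon Cfsg.Agent.MonU Cfsg.Agent.PLocal Cfsg.Agent.PLocal.Amb
open Cfsg.Agent.MonY.E0 (mem_c2)

variable {G : Type} [Group G]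

/-- The images `U` of `K^g ∩ N(A)` and `Y` of `K^g ∩ A`. -/
structure Cfg (a b : G) (U Y : Subgroup G) : Prop where
  EU : EE a b ≤ U
  UN : U ≤ 𝐍[EE a b]
  YU : Y ≤ U
  nY : ¬ (a ∈ Y ∧ b ∈ Y)
  norm : ∀ l ∈ U, l ∈ KK a b → l ∉ EE a b → l * l = 1 → ∀ k ∈ KK a b, k * l = l * k →
    ∀ x ∈ U, cm k x ∈ Y

theorem cm_inv (x y : G) : cm x y = (cm y x)⁻¹ := by simp only [cm]; group

theorem cm_mul_self (x y : G) : cm x y * y = x * y * x⁻¹ := by simp only [cm]; group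

variable [Finite G] {z : G} {Q : Subgroup G} {π : centralizer ({z} : Set G) →* Co1}
  {ψ : leechLattice → G} {a b : G} {U Y : Subgroup G}

namespace St

variable (s : St z Q π ψ a b)
include s

theorem exists_cm {w : G} (hw : w ∈ Rt z Q a b) (hQ : w ∈ Q) (hne : w ≠ z) :
    ∃ k ∈ KK a b, k * w = w * k ∧ cm k z = w := by
  obtain ⟨Q', π', ψ', s', e⟩ := s.move hw
  have zQ : z ∈ Q' := (e z).2 (s.h.inQ_symm hw.1.mem_cB (s.h.inQ_z.2 hQ))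
  obtain ⟨q, h1, h2, h3⟩ := s'.h.xs.exists_comm_not_comm s'.F2_Q zF zQ fun c =>
    (s'.mem_F.1 c).elim (s.nE z_mem_cB) (s.nE (s.h.xs.z_comm w hQ ▸ Bs.mul_z_B s.h hQ hw.1.mem_cB hne))
  refine ⟨q, mem_c2.2 ⟨(h2 a (E_F aE)).symm, (h2 b (E_F bE)).symm⟩, (h2 w zF).symm, ?_⟩
  rw [cm, s'.h.xs.conj_of_ne h1 zQ h3, ← s.h.xs.z_comm w hQ, mul_inv_cancel_right]

theorem inn_core (c : Cfg a b U Y) {l x : G} (lU : l ∈ U) (lQ : l ∈ Q) (lK : l ∈ KK a b)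
    (lE : l ∉ EE a b) (ll : l * l = 1) (xU : x ∈ U) (xz : x * z = z * x)
    (h2 : x * x ∈ EE a b ∨ x * x * l ∈ EE a b) : x ∈ EE a b ∨ x * l ∈ EE a b := by
  have key : U ⊓ (Q ⊓ KK a b) ≤ F2 z a b ⊔ zpowers l → x ∈ U ⊓ (Q ⊓ KK a b) := fun e =>
    ⟨xU, s.big lQ (c.UN xU) xz (h2.elim (fun e => s.E_Q e)
      fun e => (mul_mem_cancel_right lQ).1 (s.E_Q e)) fun q hq ql => e
        ⟨c.YU (cm_inv x q ▸ inv_mem (c.norm l lU lK lE ll q hq.2 ql x xU)), cm_mem s.h xz hq.1,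
          cm_KK (c.UN xU) hq.2⟩⟩
  by_cases zU : z ∈ U
  · have hn := c.norm z zU s.zK (s.nE z_mem_cB) s.h.mon.z_sq
    have FU : F2 z a b ≤ U := fun y hy => (s.mem_F.1 hy).elim (fun e => c.EU e)
      fun e => (mul_mem_cancel_right zU).1 (c.EU e)
    rcases s.irr (U := U ⊓ KK a b) (le_inf FU s.F_K) inf_le_right (fun k hk kz y hy =>
      ⟨cm_mul_self k y ▸ mul_mem (c.YU (hn k hk kz y hy.1)) hy.1,
        conj_KK (KK_le a b hk) hy.2⟩) with e | e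
    · have h3 := key fun y hy => mem_sup_left (e ⟨⟨hy.1, hy.2.2⟩, hy.2.1⟩)
      have h4 := (s.mem_F.1 (e ⟨⟨lU, lK⟩, lQ⟩)).resolve_left lE
      refine (s.mem_F.1 (e ⟨⟨xU, h3.2.2⟩, h3.2.1⟩)).imp id fun h5 => ?_
      have := mul_mem h5 h4
      rwa [s.h.xs.z_comm l lQ, mul_assoc, ← mul_assoc z, s.h.mon.z_sq, one_mul] at this
    · have k : ∀ w ∈ Rt z Q a b, w ∈ Q → w ≠ z → w ∈ Y := fun w hw hQ hne => by
        obtain ⟨k, k1, k2, k3⟩ := s.exists_cm hw hQ hne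
        exact k3 ▸ c.norm w (e ⟨hQ, s.R_K hw⟩).1 (s.R_K hw) (s.nE hw.1.mem_cB)
          (s.h.mul_self_B hw.1.mem_cB) k k1 k2 z zU
      exact absurd ⟨s.six k, s.symm.six fun w hw => k w ⟨hw.2, hw.1⟩⟩ c.nY
  · have k : ∀ y ∈ U ⊓ (Q ⊓ KK a b), y ∈ F2 z a b ∨ y * l ∈ F2 z a b := fun y hy =>
      s.four lQ hy.2.1 fun q hq ql => comm_of_conj_eq ((s.h.xs.conj hq.1 hy.2.1).resolve_right
        fun e => zU ((U.mul_mem_cancel_left hy.1).1 (e ▸ cm_mul_self q y ▸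
          mul_mem (c.YU (c.norm l lU lK lE ll q hq.2 ql y hy.1)) hy.1)))
    have k2 : ∀ y ∈ U, y ∈ F2 z a b → y ∈ EE a b := fun y hy e => (s.mem_F.1 e).resolve_right
      fun e => zU ((mul_mem_cancel_left hy).1 (c.EU e))
    exact (k x (key fun y hy => (s.h.xs.mem_sup_zpowers s.F2_Q zF lQ).2 (k y hy))).imp
      (k2 x xU) (k2 _ (mul_mem xU lU))

/-- A member of `R(a,b)` centralising `C_Q(a,b,l)` has `l` in its extraspecial group. -/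
theorem inQ_of_cent {l w : G} (lQ : l ∈ Q) (hw : w ∈ Rt z Q a b)
    (hc : ∀ q ∈ Q ⊓ KK a b, q * l = l * q → q * w = w * q) : InQ z Q w l := by
  have wB := hw.1.mem_cB
  have wz := (hc z ⟨s.h.xs.z_mem, s.zK⟩ (s.h.xs.z_comm l lQ).symm).symm
  have wQ := (s.big lQ (KK_le a b (s.R_K hw)) wz (by simp [s.h.mul_self_B wB]) fun q hq e => by
    simp [cm, ← hc q hq e]).1
  obtain ⟨Q', π', ψ', s', e⟩ := s.move hw
  have FQ : F2 z a b ≤ Q' := sup_le (sup_le (zpowers_le.2 ((e z).2 (s.h.inQ_symm wB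
    (s.h.inQ_z.2 wQ)))) (zpowers_le.2 s'.aQ)) (zpowers_le.2 s'.bQ)
  rcases s.four lQ wQ hc with k | k
  · rw [s.eq_of_B s.zR wB (s.h.xs.z_inv.symm ▸ (s.mem_F.1 k).resolve_left (s.nE wB))]
    exact s.h.inQ_z.2 lQ
  · exact (e l).1 ((mul_mem_cancel_left s'.h.xs.z_mem).1 (FQ k))

theorem inn (c : Cfg a b U Y) {l x : G} (lU : l ∈ U) (lK : l ∈ KK a b) (lE : l ∉ EE a b)
    (l2 : l * l ∈ EE a b) (xU : x ∈ U) (xl : cm x l ∈ EE a b)
    (h2 : x * x ∈ EE a b ∨ x * x * l ∈ EE a b) : x ∈ EE a b ∨ x * l ∈ EE a b := by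
  have ll := sq_eq_one s.h s.ha s.hb lK l2
  obtain ⟨w₀, h0, h1⟩ := exists_R s.h s.ha s.hb lK l2
  obtain ⟨Q, π, ψ, s, e⟩ := s.move h0
  have lQ := (e l).2 h1
  clear e h0 h1
  let C := KK a b ⊓ centralizer {l}
  have hx : zpowers x ≤ 𝐍[C] := zpowers_le.2 (mem_normalizer_fintype fun k hk => by
    have h3 := conj_KK (c.UN xU) hk.1
    refine ⟨h3, mem_centralizer_singleton_iff.2 ?_⟩
    have h4 := If0.conj_comm x (mem_centralizer_singleton_iff.1 hk.2)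
    rw [← cm_mul_self x l, ← mul_assoc, ← cmE xl h3, mul_assoc (cm x l), mul_assoc (cm x l),
      mul_right_inj] at h4
    exact h4)
  have px : IsPGroup 2 (zpowers x) := isPGroup_zpowers ⟨2, by
    rw [pow_two, pow_mul, pow_two, pow_two]
    refine h2.elim s.E_sq fun e => ?_
    have := s.E_sq e
    rw [show x * x = x * x * l * l by rw [mul_assoc, ll, mul_one], mul_assoc, ← mul_assoc l,
      ← cmE e lK, mul_assoc _ l l, ll, mul_one, this]⟩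
  obtain ⟨S, hS, h3⟩ := exists_isSylowIn_ge (H := C ⊔ zpowers x)
    (s.h.xs.isPGroup.to_le (inf_le_left (b := C))) (inf_le_right.trans le_sup_left)
  obtain ⟨g, hg, h4⟩ := hS.exists_conj_le px le_sup_right
  obtain ⟨k, hk, y, ⟨n, rfl⟩, rfl⟩ := (mem_sup_of_le_normalizer_left hx).1 hg
  have h5 : k * x * k⁻¹ ∈ S := by
    convert h4 ⟨x, mem_zpowers x, rfl⟩ using 1
    simp only [MulEquiv.coe_toMonoidHom, MulAut.conj_apply]; group
  obtain ⟨w, h6, h7⟩ := s.exists_w hS.isPGroup (hS.le.trans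
    (sup_le (inf_le_left.trans (KK_le a b)) (zpowers_le.2 (c.UN xU))))
  have h8 := s.inQ_of_cent lQ h6 fun q hq e => h7 q (h3 ⟨hq.1, hq.2, mem_centralizer_singleton_iff.2 e⟩)
  obtain ⟨Q', π', ψ', s', e⟩ := s.move h6
  have kl := mem_centralizer_singleton_iff.1 hk.2
  have cE : ∀ {y}, k * y * k⁻¹ ∈ EE a b ↔ y ∈ EE a b :=
    (mem_normalizer_iff.1 (KK_le a b hk.1) _).symm
  have cl : ∀ y, k * y * k⁻¹ * l = k * (y * l) * k⁻¹ := fun y => by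
    rw [← conj_mul, conj_eq_of_comm kl]
  have := s'.inn_core c lU ((e l).2 h8) lK lE ll (cm_mul_self k x ▸ mul_mem
    (c.YU (c.norm l lU lK lE ll k hk.1 kl x xU)) xU) (h7 _ h5) (by rwa [conj_mul, cl, cE, cE])
  rwa [cl, cE, cE] at this

end St

end Cfsg.Agent.E6S
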