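import Cfsg.Agent.Std2B.RedB
import Cfsg.Agent.MonY.E0

/-! Elements of `C(z)` acting trivially on a subgroup of `Q / z` of index at most 128. -/

set_option autoImplicit false
set_option linter.unusedVariables false

namespace Cfsg.Agent.E6S

open Cfsg Cfsg.Spor Cfsg.Agent.Spor Cfsg.Agent.Spor.Leech Subgroup Cfsg.Agent.TT Cfsg.Agent.LES
  Cfsg.Agent.Mon Cfsg.Agent.Mon.LL Cfsg.Agent.Std2B
open Cfsg.Agent.MonY.E0 (W mem_W mem_c2)

theorem index_fixSub {o : Finset GolayPt} (ho : o ∈ GC) (h8 : o.card = 8 ∨ o.card = 12) :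
    (fixSub (sgn o ho)).index = 2 ^ o.card := by
  let ρ : leechLattice →+ (o → ℤ) :=
    { toFun := fun v i => (v : GolayPt → ℤ) i, map_zero' := rfl, map_add' := fun _ _ => rfl }
  have h1 : fixSub (sgn o ho) = (ρ.range.map (nsmulAddMonoidHom 2)).comap ρ := by
    ext v
    constructor
    · rintro ⟨y, hy⟩
      obtain ⟨y₁, h1⟩ := exists_proj ho h8 y.2 fun i hi => by
        rw [coord_of_fix ho hy, if_neg hi]
      refine ⟨ρ y₁, ⟨y₁, rfl⟩, funext fun i => ?_⟩
      have := h1 i i.2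
      rw [coord_of_fix ho hy, if_pos i.2] at this
      simpa [ρ] using this
    · rintro ⟨_, ⟨y, rfl⟩, hy⟩
      refine ⟨y - sgn o ho • y, Subtype.ext (funext fun i => ?_)⟩
      rw [AddSubgroup.coe_add, Pi.add_apply, sub_sgn, sub_sgn]
      split_ifs with hi
      · have : 2 * (y : GolayPt → ℤ) i = (v : GolayPt → ℤ) i := by
          simpa [ρ] using congrFun hy ⟨i, hi⟩
        omega
      · rfl
  have h2 : ρ.range.FiniteIndex := by
    have : (nsmulAddMonoidHom (α := o → ℤ) 8).range.FiniteIndex :=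
      ⟨by rw [AddSubgroup.index_range_nsmul]; positivity⟩
    refine AddSubgroup.finiteIndex_of_le (H := (nsmulAddMonoidHom (α := o → ℤ) 8).range) ?_
    rintro _ ⟨x, rfl⟩
    refine ⟨∑ i : o, x i • e8 i, funext fun j => ?_⟩
    rw [map_sum, Finset.sum_apply, Finset.sum_eq_single j]
    · simp [ρ, mul_comm]
    · intro b _ hb
      have : (j : GolayPt) ≠ b := fun e => hb (Subtype.ext e.symm)
      simp [ρ, this]
    · simp
  rw [h1, AddSubgroup.index_comap, AddSubgroup.relIndex_map_nsmul,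
    AddSubgroup.finrank_eq_of_finiteIndex, Module.finrank_fintype_fun_eq_card, Fintype.card_coe]

theorem pm_of_idx' {g : Co0} (hg : g * g = 1) {V : AddSubgroup leechLattice} (hV : V ≤ fixSub g)
    (hi : Idx V 128) : g = 1 ∨ g = negOne := by
  have key : ∀ {d : Finset GolayPt} (hd : d ∈ GC), d.card = 8 ∨ d.card = 12 →
      ¬ (IsConj g (sgn d hd) ∨ IsConj g (negOne * sgn d hd)) := fun {d} hd h c => by
    obtain ⟨k, hk⟩ : ∃ k, k * g * k⁻¹ = sgn d hd ∨ k * g * k⁻¹ = negOne * sgn d hd :=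
      c.elim (fun c => (isConj_iff.1 c).imp fun _ => Or.inl) fun c => (isConj_iff.1 c).imp fun _ => Or.inr
    have h1 : V.comap (DistribSMul.toAddMonoidHom leechLattice k⁻¹) ≤ fixSub (sgn d hd) :=
      fun v hv => mem_fix_conj hk (hV hv)
    have h2 := AddSubgroup.index_dvd_of_le h1
    rw [AddSubgroup.index_comap_of_surjective _ (MulAction.surjective k⁻¹), index_fixSub hd h] at h2
    have := (Nat.le_of_dvd (Nat.pos_of_ne_zero hi.1) h2).trans hi.2
    rcases h with h | h <;> rw [h] at this <;> norm_num at this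
  rcases XSC.C1.sq_cases hg with e | e | e | e
  · exact Or.inl e
  · exact Or.inr e
  · exact (key _ (Or.inl XSC.C1.o0_card) (e.exists_octad XSC.C1.o0_GC XSC.C1.o0_card)).elim
  · exact (key _ (Or.inr XSC.C1.d0_card)
      (Or.inl (e.exists_dodecad XSC.C1.d0_GC XSC.C1.d0_card))).elim

variable {G : Type} [Group G] [Finite G] {z : G} {Q : Subgroup G}
  {π : centralizer ({z} : Set G) →* Co1} {ψ : leechLattice → G} (h : If0 z Q π ψ)

/-- `A` is a subgroup of `Q` over `z` of index at most `n`. -/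
def Ix (A : Subgroup G) (n : ℕ) : Prop := A ≤ Q ∧ ∃ hz : z ∈ A, Idx (W h A hz) n

omit [Finite G] in
theorem ix_top : Ix h Q 1 := ⟨le_rfl, h.xs.z_mem, by
  rw [show W h Q h.xs.z_mem = ⊤ from eq_top_iff.2 fun v _ => h.mon.mem v]; exact idx_top⟩

variable {h}

omit [Finite G] in
theorem Ix.two {A B : Subgroup G} {n : ℕ} (i : Ix h A n) (hB : B ≤ A) (hz : z ∈ B)
    (h2 : ∀ x ∈ A, ∀ y ∈ A, x ∉ B → y ∉ B → x * y ∈ B) : Ix h B (2 * n) :=
  ⟨hB.trans i.1, hz, Two.idx ⟨fun _ hv => hB hv, fun v hv w hw a b =>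
    (h.mon.add v w).mem hz (h2 _ hv _ hw a b)⟩ i.2.2⟩

omit [Finite G] in
theorem Ix.mono {A B : Subgroup G} {n m : ℕ} (i : Ix h A n) (hB : A ≤ B) (hQ : B ≤ Q) (e : n ≤ m) :
    Ix h B m := by
  obtain ⟨-, hz, h1, h2⟩ := i
  have := AddSubgroup.index_dvd_of_le (H := W h A hz) (K := W h B (hB hz)) fun _ hv => hB hv
  exact ⟨hQ, hB hz, fun c => h1 (by simpa [c] using this),
    ((Nat.le_of_dvd (Nat.pos_of_ne_zero h1) this).trans h2).trans e⟩

omit [Finite G] in
theorem Ix.cent {A : Subgroup G} {n : ℕ} (i : Ix h A n) {a : G} (ha : a ∈ Q) :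
    Ix h (A ⊓ centralizer {a}) (2 * n) :=
  i.two inf_le_left ⟨i.2.1, mem_centralizer_singleton_iff.2 (h.xs.z_comm a ha).symm⟩
    fun _ hx _ hy c d => ⟨mul_mem hx hy, mem_centralizer_singleton_iff.2
      (h.xs.mul_comm_of_not_comm ha (i.1 hx) (i.1 hy)
        (fun e => c ⟨hx, mem_centralizer_singleton_iff.2 e⟩)
        fun e => d ⟨hy, mem_centralizer_singleton_iff.2 e⟩)⟩

/-- The commutator `x q x⁻¹ q⁻¹`. -/
def cm (x q : G) : G := x * q * x⁻¹ * q⁻¹

omit [Finite G] in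
theorem cm_mul (x p q : G) : cm x (p * q) = cm x p * (p * cm x q * p⁻¹) := by
  simp only [cm]; group

variable (h) in
include h in
omit [Finite G] in
theorem cm_mem {x q : G} (hx : x * z = z * x) (hq : q ∈ Q) : cm x q ∈ Q :=
  mul_mem (h.mon.lx.norm x hx q hq) (inv_mem hq)

variable (h) in
/-- The elements of `Q` whose commutator with `x` lies in `F`. -/
def Cm {x : G} (hx : x * z = z * x) (F : Subgroup G) (hF : F ≤ Q) (hz : z ∈ F) : Subgroup G where
  carrier := {q | q ∈ Q ∧ cm x q ∈ F}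
  one_mem' := ⟨one_mem _, by simp [cm]⟩
  mul_mem' := fun {p q} hp hq => ⟨mul_mem hp.1 hq.1, by
    rw [cm_mul]; exact mul_mem hp.2 (h.xs.conj_mem hF hz hp.1 hq.2)⟩
  inv_mem' := fun {q} hq => ⟨inv_mem hq.1, by
    have := h.xs.conj_mem hF hz (inv_mem hq.1) (inv_mem hq.2)
    convert this using 1
    simp only [cm]; group⟩

omit [Finite G] in
theorem Ix.step {A F : Subgroup G} {n : ℕ} (i : Ix h A n) {x y : G} (hx : x * z = z * x)
    (hF : F ≤ Q) (hz : z ∈ F) (hy : y ∈ Q) (hc : ∀ q ∈ A, cm x q ∈ F ⊔ zpowers y) :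
    Ix h (A ⊓ Cm h hx F hF hz) (2 * n) := by
  refine i.two inf_le_left ⟨i.2.1, h.xs.z_mem, ?_⟩ fun p hp q hq c d =>
    ⟨mul_mem hp hq, mul_mem (i.1 hp) (i.1 hq), ?_⟩
  · simp [cm, hx]
  have e1 := ((h.xs.mem_sup_zpowers hF hz hy).1 (hc p hp)).resolve_left fun e => c ⟨hp, i.1 hp, e⟩
  have e2 := ((h.xs.mem_sup_zpowers hF hz hy).1 (hc q hq)).resolve_left fun e => d ⟨hq, i.1 hq, e⟩
  have e3 : y * y ∈ F := by rcases h.xs.sq hy with e | e <;> simp [e, hz]
  rw [cm_mul]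
  have e6 : Eqv z (p * cm x q * p⁻¹) (cm x q) := h.xs.conj (i.1 hp) (cm_mem h hx (i.1 hq))
  refine (e6.mul_left _).mem hz ?_
  have := mul_mem (mul_mem e1 (inv_mem e3)) (h.xs.conj_mem hF hz hy e2)
  convert this using 1
  group

/-- An element of `C(z, a)` with square in `Q` acting trivially on a large part of `Q` lies in `Q`. -/
theorem Ix.mem_Q {A : Subgroup G} {n : ℕ} (i : Ix h A n) (hn : n ≤ 128) {t : G} (hz : t * z = z * t)
    (ht : t * t ∈ Q) {a : G} (ha : a ∈ cA ψ) (hQ : a ∈ Q) (hc : t * a = a * t)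
    (hA : ∀ q ∈ A, cm t q ∈ zpowers z) : t ∈ Q := by
  let u : centralizer ({z} : Set G) := ⟨t, mem_centralizer_singleton_iff.2 hz⟩
  obtain ⟨g, hg⟩ := QuotientGroup.mk_surjective (π u)
  obtain ⟨-, hz', i⟩ := i
  refine (mem_Q_iff h hg).2 (pm_of_idx' (sq_eq_one h hg ht ha hQ hc)
    (fun v hv => (fix_iff h hg).2 ?_) ⟨i.1, i.2.trans hn⟩)
  refine ((mem_zpowers_invol h.mon.z_sq).1 (hA _ hv)).imp mul_inv_eq_one.1 fun e => ?_
  exact (mul_inv_eq_iff_eq_mul.1 e).trans (h.xs.z_comm _ (h.mon.mem v)).symm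

end Cfsg.Agent.E6S
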