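import Cfsg.Agent.E6S.Lem
import Cfsg.Agent.E6S.Cls

/-! Local facts about `N(⟨a,b⟩)` for a pure four-group of 2A involutions. -/

set_option autoImplicit false
set_option linter.unusedSectionVars false

namespace Cfsg.Agent.E6S

open Cfsg Cfsg.Spor Cfsg.Agent.Spor Cfsg.Agent.Spor.Leech Subgroup Cfsg.Agent.TT Cfsg.Agent.LES
  Cfsg.Agent.Mon Cfsg.Agent.MonU Cfsg.Agent.PLocal Cfsg.Agent.PLocal.Amb
open Cfsg.Agent.MonY.E0 (W mem_W two_mem_W mem_c2)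

variable {G : Type} [Group G]

/-- The four-group. -/
abbrev EE (a b : G) : Subgroup G := closure {a, b}

/-- Its centraliser. -/
abbrev KK (a b : G) : Subgroup G := centralizer {a, b}

/-- A frame containing the four-group. -/
structure St (z : G) (Q : Subgroup G) (π : centralizer ({z} : Set G) →* Co1)
    (ψ : leechLattice → G) (a b : G) : Prop where
  h : If0 z Q π ψ
  ha : a ∈ cA ψ
  hb : b ∈ Dt ψ a
  aQ : a ∈ Q
  bQ : b ∈ Q

theorem cmE {a b e k : G} (he : e ∈ EE a b) (hk : k ∈ KK a b) : e * k = k * e :=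
  mem_centralizer_closure_pair.2 (mem_c2.1 hk) e he

theorem aE {a b : G} : a ∈ EE a b := subset_closure (by simp)

theorem bE {a b : G} : b ∈ EE a b := subset_closure (by simp)

theorem KK_eq (a b : G) : KK a b = 𝐂[EE a b] := (centralizer_closure _).symm

theorem KK_le (a b : G) : KK a b ≤ 𝐍[EE a b] := KK_eq a b ▸ centralizer_le_normalizer' _

theorem conj_KK {a b n k : G} (hn : n ∈ 𝐍[EE a b]) (hk : k ∈ KK a b) : n * k * n⁻¹ ∈ KK a b := by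
  rw [KK_eq] at *
  exact conj_mem_of_mem_normalizer (normalizer_le_normalizer_centralizer _ hn) hk

theorem cm_KK {a b n k : G} (hn : n ∈ 𝐍[EE a b]) (hk : k ∈ KK a b) : cm n k ∈ KK a b :=
  mul_mem (conj_KK hn hk) (inv_mem hk)

variable [Finite G] {z : G} {Q : Subgroup G} {π : centralizer ({z} : Set G) →* Co1}
  {ψ : leechLattice → G} {a b : G}

namespace St

variable (s : St z Q π ψ a b)
include s

theorem move {w : G} (hw : w ∈ Rt z Q a b) : ∃ (Q' : Subgroup G)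
    (π' : centralizer ({w} : Set G) →* Co1) (ψ' : leechLattice → G),
    St w Q' π' ψ' a b ∧ ∀ x, x ∈ Q' ↔ InQ z Q w x := by
  obtain ⟨g, rfl⟩ := isConj_iff.1 hw.1.mem_cB
  have e : ∀ {x}, x ∈ cA ψ → x ∈ cA fun v => MulAut.conj g (ψ v) := fun hx =>
    (isConj_iff.2 ⟨g, rfl⟩).symm.trans hx
  exact ⟨_, _, _, ⟨E6.if0_map s.h (MulAut.conj g), e s.ha, ⟨e s.hb.1, e s.hb.2⟩,
    s.h.inQ_iff_map.1 hw.1, s.h.inQ_iff_map.1 hw.2⟩, fun _ => s.h.inQ_iff_map.symm⟩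

theorem mem_E {x : G} : x ∈ EE a b ↔ x = 1 ∨ x = a ∨ x = b ∨ x = a * b := E6.mem_E s.h s.ha s.hb

theorem E_A {x : G} (hx : x ∈ EE a b) : x = 1 ∨ x ∈ cA ψ := E6.E_A s.h s.ha s.hb hx

theorem E_sq {x : G} (hx : x ∈ EE a b) : x * x = 1 :=
  (s.E_A hx).elim (fun e => by simp [e]) s.h.mul_self_A

theorem E_K : EE a b ≤ KK a b := E6.E_le s.h s.ha s.hb

theorem E_Q : EE a b ≤ Q := (closure_le _).2 (by rintro _ (rfl | rfl); exacts [s.aQ, s.bQ])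

theorem nE {x : G} (hx : x ∈ cB z) : x ∉ EE a b := fun c =>
  (s.E_A c).elim (s.h.ne_one_B hx) fun c => s.h.disj c hx

theorem zR : z ∈ Rt z Q a b := ⟨s.h.inQ_z.2 s.aQ, s.h.inQ_z.2 s.bQ⟩

theorem R_K {w : G} (hw : w ∈ Rt z Q a b) : w ∈ KK a b :=
  mem_c2.2 ⟨(CF.inQ_cent s.h hw.1).symm, (CF.inQ_cent s.h hw.2).symm⟩

theorem zK : z ∈ KK a b := s.R_K s.zR

theorem eq_of_B {w x : G} (hw : w ∈ Rt z Q a b) (hx : x ∈ cB z) (e : x * w⁻¹ ∈ EE a b) : x = w :=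
  mul_inv_eq_one.1 (E6.eq_one_of_B s.h s.ha s.hb hw e (by simpa using hx))

theorem fixA {x : G} (hx : x ∈ 𝐍[EE a b]) (h2 : x * x ∈ KK a b) :
    ∃ e ∈ EE a b, e ∈ cA ψ ∧ x * e = e * x := by
  by_cases c : x * a * x⁻¹ = a
  · exact ⟨a, aE, s.ha, comm_of_conj_eq c⟩
  have h1 := conj_mem_of_mem_normalizer hx (aE (a := a) (b := b))
  refine ⟨_, mul_mem aE h1, (s.E_A (mul_mem aE h1)).resolve_left fun e => c ?_, comm_of_conj_eq ?_⟩
  · rw [eq_inv_of_mul_eq_one_right e, s.h.inv_A s.ha]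
  · rw [cmE aE (s.E_K h1), ← conj_mul, cmE h1 (s.E_K aE)]
    congr 1
    calc _ = x * x * a * (x * x)⁻¹ := by group
      _ = a := conj_eq_of_comm (cmE aE h2).symm

theorem K_of_Q {x : G} (hx : x ∈ 𝐍[EE a b]) (hQ : x ∈ Q) : x ∈ KK a b := by
  have k : ∀ e ∈ EE a b, x * e = e * x := fun e he =>
    comm_of_conj_eq ((s.h.xs.conj hQ (s.E_Q he)).resolve_right fun c => s.nE z_mem_cB
      ((mul_mem_cancel_left he).1 (c ▸ conj_mem_of_mem_normalizer hx he)))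
  exact mem_c2.2 ⟨k a aE, k b bE⟩

omit s in
/-- `⟨z, a, b⟩`. -/
abbrev F2 (z a b : G) : Subgroup G := zpowers z ⊔ zpowers a ⊔ zpowers b

theorem F1_Q : zpowers z ⊔ zpowers a ≤ Q := sup_le (zpowers_le.2 s.h.xs.z_mem) (zpowers_le.2 s.aQ)

theorem F2_Q : F2 z a b ≤ Q := sup_le s.F1_Q (zpowers_le.2 s.bQ)

omit s in
theorem zF : z ∈ F2 z a b := mem_sup_left (mem_sup_left (mem_zpowers z))

omit s in
theorem E_F : EE a b ≤ F2 z a b := (closure_le _).2 (by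
  rintro _ (rfl | rfl)
  exacts [mem_sup_left (mem_sup_right (mem_zpowers _)), mem_sup_right (mem_zpowers _)])

theorem mem_F {x : G} : x ∈ F2 z a b ↔ x ∈ EE a b ∨ x * z ∈ EE a b := by
  rw [← TT.mem_sup_zpowers_of_comm s.h.mon.z_sq fun y hy => s.h.xs.z_comm y (s.E_Q hy)]
  refine ⟨fun hx => (?_ : F2 z a b ≤ _) hx, fun hx => sup_le E_F (zpowers_le.2 zF) hx⟩
  exact sup_le (sup_le le_sup_right (zpowers_le.2 (mem_sup_left aE))) (zpowers_le.2 (mem_sup_left bE))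

theorem F_K : F2 z a b ≤ KK a b := fun _ hx => (s.mem_F.1 hx).elim (fun e => s.E_K e)
  fun e => (mul_mem_cancel_right s.zK).1 (s.E_K e)

theorem ix4 : Ix s.h (Q ⊓ KK a b) 4 :=
  (((ix_top s.h).cent s.aQ).cent s.bQ).mono (fun _ hx => ⟨hx.1.1, mem_c2.2
    ⟨mem_centralizer_singleton_iff.1 hx.1.2, mem_centralizer_singleton_iff.1 hx.2⟩⟩) inf_le_left le_rfl

theorem down {A : Subgroup G} {n : ℕ} (i : Ix s.h A n) (hn : n ≤ 32) {x : G} (hx : x ∈ 𝐍[EE a b])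
    (hz : x * z = z * x) (h2 : x * x ∈ Q) (hc : ∀ q ∈ A, cm x q ∈ F2 z a b) : x ∈ Q ⊓ KK a b := by
  obtain ⟨e, h3, h4, h5⟩ := s.fixA hx (s.K_of_Q (mul_mem hx hx) h2)
  have i1 := i.step hz s.F1_Q (mem_sup_left (mem_zpowers z)) s.bQ hc
  have i2 := i1.step hz (zpowers_le.2 s.h.xs.z_mem) (mem_zpowers z) s.aQ fun q hq => hq.2.2
  have := i2.mem_Q (by omega) hz h2 h4 (s.E_Q h3) h5 fun q hq => hq.2.2
  exact ⟨this, s.K_of_Q hx this⟩

theorem big {l x : G} (hl : l ∈ Q) (hx : x ∈ 𝐍[EE a b]) (hz : x * z = z * x) (h2 : x * x ∈ Q)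
    (hc : ∀ q ∈ Q ⊓ KK a b, q * l = l * q → cm x q ∈ F2 z a b ⊔ zpowers l) : x ∈ Q ⊓ KK a b :=
  s.down ((s.ix4.cent hl).step hz s.F2_Q zF hl fun q hq =>
    hc q hq.1 (mem_centralizer_singleton_iff.1 hq.2)) (by norm_num) hx hz h2 fun _ hq => hq.2.2

theorem four {l x : G} (hl : l ∈ Q) (hx : x ∈ Q)
    (hc : ∀ q ∈ Q ⊓ KK a b, q * l = l * q → q * x = x * q) : x ∈ F2 z a b ∨ x * l ∈ F2 z a b :=
  (s.h.xs.mem_sup_zpowers s.F2_Q zF hl).1 (s.h.xs.mem_of_comm_centralizer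
    (sup_le s.F2_Q (zpowers_le.2 hl)) (mem_sup_left zF) hx fun q hq e => hc q ⟨hq, mem_c2.2
      ⟨(e a (mem_sup_left (E_F aE))).symm, (e b (mem_sup_left (E_F bE))).symm⟩⟩
      (e l (mem_sup_right (mem_zpowers l))).symm)

theorem irr {U : Subgroup G} (h1 : F2 z a b ≤ U) (h2 : U ≤ KK a b)
    (hn : ∀ k ∈ KK a b, k * z = z * k → ∀ y ∈ U, k * y * k⁻¹ ∈ U) :
    U ⊓ Q ≤ F2 z a b ∨ Q ⊓ KK a b ≤ U := by
  have h := s.h
  obtain ⟨r, t, er, et, nr, nt, rt⟩ := CF.exists_pair h s.ha s.aQ s.hb.1 s.bQ s.hb.2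
  refine (MonY.irr20 nr nt rt (W h U (h1 zF)) (two_mem_W h _) ((mem_W h _ er).2 (h1 (E_F aE)))
    ((mem_W h _ et).2 (h1 (E_F bE))) (fun v hv =>
      ⟨(h.mon.comm_iff (Eqv.refl _ _) er).1 (mem_c2.1 (h2 hv)).1,
        (h.mon.comm_iff (Eqv.refl _ _) et).1 (mem_c2.1 (h2 hv)).2⟩) fun g gr gs v hv => ?_).imp
    (fun hW q hq => ?_) fun hW q hq => ?_
  · obtain ⟨u, hu, uc⟩ := MonY.E0.exists_lift h s.ha s.hb.1 s.hb.2 er et gr gs
    exact (mem_W h _ (h.mon.conj_eqv hu (Eqv.refl _ _))).2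
      (hn u uc (mem_centralizer_singleton_iff.1 u.2) _ hv)
  · obtain ⟨v, ev⟩ := h.mon.onto q hq.2
    obtain ⟨i, j, y, rfl⟩ := hW v ((mem_W h _ ev).2 hq.1)
    exact (mem_W h zF ev).1 (add_mem (add_mem (zsmul_mem ((mem_W h _ er).2 (E_F aE)) i)
      (zsmul_mem ((mem_W h _ et).2 (E_F bE)) j)) (two_mem_W h _ y))
  · obtain ⟨v, ev⟩ := h.mon.onto q hq.1
    exact (mem_W h _ ev).1 (hW v ((h.mon.comm_iff ev er).1 (mem_c2.1 hq.2).1)
      ((h.mon.comm_iff ev et).1 (mem_c2.1 hq.2).2))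

theorem symm : St z Q π ψ b a := ⟨s.h, s.hb.1, ⟨s.ha, CF.A_comm s.hb.2⟩, s.bQ, s.aQ⟩

theorem exists_std : ∃ g : G, g * z * g⁻¹ = z ∧ g * ψ leechU * g⁻¹ = a ∧ g * ψ x16 * g⁻¹ = b := by
  have r := fun v => Eqv.refl z (ψ v)
  obtain ⟨g, h1, h2, h3⟩ := s.h.trans_pair (E6.A_a s.h (r _)) (E6.D_b s.h (r _) (r _)) s.ha s.hb
    (s.h.mon.mem _) (s.h.mon.mem _) s.aQ s.bQ
  exact ⟨g, h3, h1, h2⟩

/-- The product of six neighbours of `z`. -/
theorem six {L : Subgroup G} (hL : ∀ w ∈ Rt z Q a b, w ∈ Q → w ≠ z → w ∈ L) : a ∈ L := by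
  obtain ⟨g, gz, rfl, rfl⟩ := s.exists_std
  have h := s.h
  have r := fun v => Eqv.refl z (ψ v)
  have u : ∀ j s, (j = 12 ∨ j = 14 ∨ j = 16 ∨ j = 17 ∨ j = 18 ∨ j = 22) → ∀ w,
      Eqv z w (ψ (leechU + Br.v4 (some 1) (some j) s)) → w ∈ cj(g⁻¹, L) := fun j s hj w e => by
    have k : LC.nm (leechU + Br.v4 (some 1) (some j) s) = 64 ∧
        LC.nm (-leechU + (leechU + Br.v4 (some 1) (some j) s)) = 32 ∧
        LC.nm (-x16 + (leechU + Br.v4 (some 1) (some j) s)) = 32 := by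
      rcases hj with rfl | rfl | rfl | rfl | rfl | rfl <;> cases s <;> decide
    rw [mem_cj, inv_inv]
    exact hL _ ((CE.Rt_conj g).2 (E6.mem_R h (r _) (r _) e k))
      (h.mon.lx.norm g (comm_of_conj_eq gz) _ (h.mon.mem_of_eqv e)) fun c =>
        (CE.J0.mem_B_of_eqv h e k.1).2 ((MulAut.conj g).injective (c.trans gz.symm))
  have zL : z ∈ cj(g⁻¹, L) := (mul_mem_cancel_left (u 12 true (by simp) _ (r _))).1
    (u 12 true (by simp) _ (Or.inr rfl))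
  have k := fun j s hj => u j s hj _ (r _)
  have e6 := h.eqv_mul' (h.eqv_mul' (h.eqv_mul' (h.eqv_mul' (h.eqv_mul'
    (r (leechU + Br.v4 (some 1) (some 12) true)) (r (leechU + Br.v4 (some 1) (some 14) true)))
    (r (leechU + Br.v4 (some 1) (some 16) true))) (r (leechU + Br.v4 (some 1) (some 17) true)))
    (r (leechU + Br.v4 (some 1) (some 18) true))) (r (leechU + Br.v4 (some 1) (some 22) false))
  replace e6 := h.eqv_congr e6 (w := leechU) (y := ⟨fun i => if i = none ∨ i = some 0 then 10 else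
    if i = some 1 then 12 else if i = some 22 then -2 else if i ∈ setOf' 13062145 then 2 else 0,
    mem_leech_of_even (setOf'_mem_codeSets (m := 13062145) (by decide +kernel)) (by decide)
      (by decide)⟩) (Subtype.ext (by decide))
  have := (e6.symm h.mon.z_sq).mem zL (mul_mem (mul_mem (mul_mem (mul_mem (mul_mem
    (k _ _ (by simp)) (k _ _ (by simp))) (k _ _ (by simp))) (k _ _ (by simp))) (k _ _ (by simp)))
    (k _ _ (by simp)))
  rwa [mem_cj, inv_inv] at this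

/-- Every 2-subgroup of `N(⟨a,b⟩)` centralises a member of `R(a,b)`. -/
theorem exists_w {S : Subgroup G} (hS : IsPGroup 2 S) (hN : S ≤ 𝐍[EE a b]) :
    ∃ w ∈ Rt z Q a b, ∀ x ∈ S, x * w = w * x := by
  obtain ⟨T, hT, h1⟩ := exists_isSylowIn_ge (H := 𝐍[EE a b])
    (s.h.xs.isPGroup.to_le (inf_le_left (b := KK a b))) (inf_le_right.trans (KK_le a b))
  obtain ⟨k, hk, h2⟩ := hT.exists_conj_le hS hN
  have h3 := s.h.le_C_of_two s.aQ s.bQ (s.h.cent_two s.ha s.hb.1 s.hb.2 s.aQ s.bQ) hT.isPGroup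
    fun q hq e e' => h1 ⟨hq, mem_c2.2 ⟨e, e'⟩⟩
  have h4 : ∀ e ∈ EE a b, InQ z Q (k⁻¹ * z * k⁻¹⁻¹) e := fun e he => s.h.inQ_iff.2 (by
    simpa using s.E_Q (conj_mem_of_mem_normalizer hk he))
  refine ⟨_, ⟨h4 a aE, h4 b bE⟩, fun x hx => ?_⟩
  have := mem_centralizer_singleton_iff.1 (h3 (h2 ⟨x, hx, rfl⟩))
  simpa [mul_assoc] using If0.conj_comm k⁻¹ this

end St

end Cfsg.Agent.E6S
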